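import Mathlib

/-!
# The action of the common normalizer on a section
-/

set_option autoImplicit false
set_option linter.style.haveILetI false
set_option linter.unusedSectionVars false

namespace Cfsg.Agent.H60.NoMoved

open Subgroup

universe u
variable {G : Type u} [Group G] (R M : Subgroup G)

/-- Elements normalizing both `R` and `M`. -/
abbrev norm₂ : Subgroup G := normalizer (R : Set G) ⊓ normalizer (M : Set G)

variable {R M}

theorem subgroupOf_normal (hRM : R ≤ normalizer (M : Set G)) : (M.subgroupOf R).Normal :=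
  ⟨fun a ha g => by
    rw [mem_subgroupOf] at ha ⊢
    exact (mem_normalizer_iff.1 (hRM g.2) (a : G)).1 ha⟩

variable [(M.subgroupOf R).Normal]

theorem map_subgroupOf_eq_conj (g : norm₂ R M) :
    (M.subgroupOf R).map (R.normalizerMonoidHom ⟨g, g.2.1⟩).toMonoidHom = M.subgroupOf R := by
  refine le_antisymm ?_ fun a ha => ?_
  · rintro _ ⟨a, ha, rfl⟩
    exact (mem_normalizer_iff.1 g.2.2 (a : G)).1 ha
  · have h1 : (g : G)⁻¹ * a * g ∈ R := by
      simpa using (mem_normalizer_iff.1 (inv_mem g.2.1) (a : G)).1 a.2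
    refine ⟨⟨_, h1⟩, ?_, Subtype.ext ?_⟩
    · show (g : G)⁻¹ * a * g ∈ M
      simpa using (mem_normalizer_iff.1 (inv_mem g.2.2) (a : G)).1 ha
    · show (g : G) * ((g : G)⁻¹ * a * g) * (g : G)⁻¹ = a
      group

/-- The action on `R ⧸ M`. -/
def sectionAct : norm₂ R M →* MulAut (R ⧸ M.subgroupOf R) where
  toFun g := QuotientGroup.congr (M.subgroupOf R) (M.subgroupOf R)
    (R.normalizerMonoidHom ⟨g, g.2.1⟩) (map_subgroupOf_eq_conj g)
  map_one' := by
    refine MulEquiv.ext fun q => ?_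
    obtain ⟨a, rfl⟩ := QuotientGroup.mk_surjective q
    exact congrArg QuotientGroup.mk (Subtype.ext (by simp))
  map_mul' g h := by
    refine MulEquiv.ext fun q => ?_
    obtain ⟨a, rfl⟩ := QuotientGroup.mk_surjective q
    exact congrArg QuotientGroup.mk (Subtype.ext (by simp [mul_assoc]))

theorem sectionAct_mk (g : norm₂ R M) (a : R) :
    sectionAct g (QuotientGroup.mk a) = QuotientGroup.mk
      (⟨(g : G) * a * (g : G)⁻¹, (mem_normalizer_iff.1 g.2.1 (a : G)).1 a.2⟩ : R) := rfl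

theorem mk_eq_mk_iff {a b : R} :
    (QuotientGroup.mk a : R ⧸ M.subgroupOf R) = QuotientGroup.mk b ↔ (a : G)⁻¹ * b ∈ M := by
  rw [QuotientGroup.eq, mem_subgroupOf, Subgroup.coe_mul, InvMemClass.coe_inv]

theorem mk_eq_one_iff {a : R} : (QuotientGroup.mk a : R ⧸ M.subgroupOf R) = 1 ↔ (a : G) ∈ M := by
  rw [QuotientGroup.eq_one_iff, mem_subgroupOf]

theorem sectionAct_fix_iff {g : norm₂ R M} {a : R} :
    sectionAct g (QuotientGroup.mk a) = QuotientGroup.mk a ↔
      (a : G)⁻¹ * ((g : G) * a * (g : G)⁻¹) ∈ M := by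
  rw [sectionAct_mk, eq_comm, mk_eq_mk_iff]

theorem sectionAct_eq_one_iff {g : norm₂ R M} :
    sectionAct g = 1 ↔ ∀ a ∈ R, a⁻¹ * ((g : G) * a * (g : G)⁻¹) ∈ M := by
  constructor
  · intro h a ha
    exact (sectionAct_fix_iff (a := ⟨a, ha⟩)).1 (by rw [h]; rfl)
  · intro h
    refine MulEquiv.ext fun q => ?_
    obtain ⟨a, rfl⟩ := QuotientGroup.mk_surjective q
    exact sectionAct_fix_iff.2 (h a a.2)

end Cfsg.Agent.H60.NoMoved
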