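import Cfsg.Agent.H60.NoMoved.SpecProps
import Cfsg.Agent.H60.NoMoved.Section

/-!
# `Spec` for the prime five
-/

set_option autoImplicit false
set_option linter.style.haveILetI false
set_option linter.unusedSectionVars false
open Cfsg

namespace Cfsg.Agent.H60.NoMoved

open Subgroup
open scoped commutatorElement

attribute [-simp] Subgroup.mem_inf Subgroup.inf_subgroupOf_left Subgroup.inf_subgroupOf_right

universe u

local instance fact_prime_five' : Fact (Nat.Prime 5) := ⟨Nat.prime_five⟩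
variable {G : Type u} [Group G] [Finite G] {x : G} {R : Subgroup G} (hs : Spec 5 x R)

/-- The conjugates of `r` by the powers of `x`. -/
abbrev cj (x r : G) (i : ℕ) : G := x ^ i * r * (x ^ i)⁻¹

include hs

theorem Spec.cj_mem {r : G} (hr : r ∈ R) (i : ℕ) : cj x r i ∈ R :=
  (mem_normalizer_iff.1 (pow_mem hs.norm i) r).1 hr

theorem Spec.pow_fix {z : G} (hz : z ∈ Fix x R) (i : ℕ) : x ^ i * z * (x ^ i)⁻¹ = z := by
  rw [((show Commute x z from (mem_fix_iff.1 hz).2).pow_left i).eq, mul_inv_cancel_right]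

theorem Spec.cj_sq {r : G} (hr : r ∈ R) (i : ℕ) : cj x r i * cj x r i = r * r := by
  calc cj x r i * cj x r i = x ^ i * (r * r) * (x ^ i)⁻¹ := by simp only [cj]; group
    _ = r * r := hs.pow_fix (hs.sq r hr) i

theorem Spec.comm_shift {r : G} (hr : r ∈ R) (k i j : ℕ) :
    ⁅cj x r (k + i), cj x r (k + j)⁆ = ⁅cj x r i, cj x r j⁆ := by
  conv_rhs => rw [← hs.pow_fix (hs.comm_mem (hs.cj_mem hr i) (hs.cj_mem hr j)) k]
  simp only [cj, commutatorElement_def, pow_add]
  group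

theorem Spec.cj_five {r : G} (hr : r ∈ R) : r⁻¹ * cj x r 5 ∈ Fix x R := by
  haveI : Fact (Nat.Prime 5) := ⟨Nat.prime_five⟩
  by_cases h : r ∈ Fix x R
  · rw [cj, hs.pow_fix h, inv_mul_cancel]; exact one_mem _
  · exact (hs.exists_orbit hr h).2

theorem Spec.comm_congr {a b b' : G} (ha : a ∈ R) (hb : b ∈ R) (h : b⁻¹ * b' ∈ Fix x R) :
    ⁅a, b'⁆ = ⁅a, b⁆ := by
  rw [show b' = b * (b⁻¹ * b') by group, hs.comm_mul_right ha hb h.1, hs.comm_fix ha h, mul_one]

/-- The commutators of the conjugates of `r`. -/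
theorem Spec.comm_table {r : G} (hr : r ∈ R) :
    ⁅r, cj x r 3⁆ = ⁅r, cj x r 2⁆ ∧ ⁅r, cj x r 4⁆ = ⁅r, cj x r 1⁆ := by
  have h5 := hs.cj_five hr
  have e0 : cj x r 0 = r := by simp [cj]
  constructor
  · have h := hs.comm_shift hr 2 0 3
    rw [e0, add_zero, hs.comm_congr (hs.cj_mem hr 2) hr h5, hs.comm_self hr (hs.cj_mem hr 2)] at h
    exact h.symm
  · have h := hs.comm_shift hr 1 0 4
    rw [e0, add_zero, hs.comm_congr (hs.cj_mem hr 1) hr h5, hs.comm_self hr (hs.cj_mem hr 1)] at h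
    exact h.symm

/-- The product of the five conjugates is fixed. -/
theorem Spec.norm_mem {r : G} (hr : r ∈ R) :
    cj x r 0 * cj x r 1 * cj x r 2 * cj x r 3 * cj x r 4 ∈ Fix x R := by
  haveI : Fact (Nat.Prime 5) := ⟨Nat.prime_five⟩
  set M := Fix x R with hM
  haveI := subgroupOf_normal (R := R) (M := M) hs.normalizes
  have hm := fun i => hs.cj_mem hr i
  refine hs.fpf' _ (mul_mem (mul_mem (mul_mem (mul_mem (hm 0) (hm 1)) (hm 2)) (hm 3)) (hm 4)) ?_
  let π : R → R ⧸ M.subgroupOf R := QuotientGroup.mk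
  have hcomm : ∀ a b : R, π a * π b = π b * π a := by
    intro a b
    show π (a * b) = π (b * a)
    rw [mk_eq_mk_iff]
    have : (((a * b : R) : G))⁻¹ * ((b * a : R) : G) = ⁅(b : G)⁻¹, (a : G)⁻¹⁆ := by
      simp only [commutatorElement_def, Subgroup.coe_mul]; group
    rw [this]
    exact hs.comm_mem (inv_mem b.2) (inv_mem a.2)
  let E : ℕ → R := fun i => ⟨cj x r i, hm i⟩
  have key : π (E 0 * E 1 * E 2 * E 3 * E 4) = π (E 1 * E 2 * E 3 * E 4 * E 5) := by
    have h5 : π (E 5) = π (E 0) := ((mk_eq_mk_iff (a := E 0) (b := E 5)).2 (by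
      show (cj x r 0)⁻¹ * cj x r 5 ∈ M
      rw [show cj x r 0 = r by simp [cj]]
      exact hs.cj_five hr)).symm
    show π (E 0) * π (E 1) * π (E 2) * π (E 3) * π (E 4) =
      π (E 1) * π (E 2) * π (E 3) * π (E 4) * π (E 5)
    have hcm : ∀ a b : R, Commute (π a) (π b) := hcomm
    rw [h5, ((((hcm (E 1) (E 0)).mul_left (hcm (E 2) (E 0))).mul_left (hcm (E 3) (E 0))).mul_left
      (hcm (E 4) (E 0))).eq]
    simp only [mul_assoc]
  rw [mk_eq_mk_iff] at key
  simp only [Subgroup.coe_mul, E] at key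
  convert key using 2
  simp only [cj]
  group

theorem Spec.sq_eq {r : G} (hr : r ∈ R) : r * r = ⁅r, cj x r 1⁆ * ⁅r, cj x r 2⁆ := by
  have hm := fun i => hs.cj_mem hr i
  obtain ⟨ht3, ht4⟩ := hs.comm_table hr
  have hsh : ∀ k j, ⁅cj x r k, cj x r (k + j)⁆ = ⁅r, cj x r j⁆ := fun k j => by
    have h := hs.comm_shift hr k 0 j
    rwa [add_zero, show cj x r 0 = r by simp [cj]] at h
  have h0 := hs.sq_fixed _ (hs.norm_mem hr)
  rw [hs.sq_mul (mul_mem (mul_mem (mul_mem (hm 0) (hm 1)) (hm 2)) (hm 3)) (hm 4),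
    hs.sq_mul (mul_mem (mul_mem (hm 0) (hm 1)) (hm 2)) (hm 3),
    hs.sq_mul (mul_mem (hm 0) (hm 1)) (hm 2), hs.sq_mul (hm 0) (hm 1),
    hs.comm_mul_left (mul_mem (mul_mem (hm 0) (hm 1)) (hm 2)) (hm 3) (hm 4),
    hs.comm_mul_left (mul_mem (hm 0) (hm 1)) (hm 2) (hm 4),
    hs.comm_mul_left (hm 0) (hm 1) (hm 4),
    hs.comm_mul_left (mul_mem (hm 0) (hm 1)) (hm 2) (hm 3),
    hs.comm_mul_left (hm 0) (hm 1) (hm 3),
    hs.comm_mul_left (hm 0) (hm 1) (hm 2),
    hs.cj_sq hr, hs.cj_sq hr, hs.cj_sq hr, hs.cj_sq hr, hs.cj_sq hr,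
    show ⁅cj x r 0, cj x r 1⁆ = _ from hsh 0 1, show ⁅cj x r 0, cj x r 2⁆ = _ from hsh 0 2,
    show ⁅cj x r 0, cj x r 3⁆ = _ from hsh 0 3, show ⁅cj x r 0, cj x r 4⁆ = _ from hsh 0 4,
    show ⁅cj x r 1, cj x r 2⁆ = _ from hsh 1 1, show ⁅cj x r 1, cj x r 3⁆ = _ from hsh 1 2,
    show ⁅cj x r 1, cj x r 4⁆ = _ from hsh 1 3, show ⁅cj x r 2, cj x r 3⁆ = _ from hsh 2 1,
    show ⁅cj x r 2, cj x r 4⁆ = _ from hsh 2 2, show ⁅cj x r 3, cj x r 4⁆ = _ from hsh 3 1,
    ht3, ht4] at h0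
  have hq := hs.sq r hr
  have ha := hs.comm_mem hr (hm 1)
  have hb := hs.comm_mem hr (hm 2)
  -- compute in the elementary abelian group of fixed points
  have hcomm : ∀ y ∈ Fix x R, ∀ z ∈ Fix x R, Commute y z := fun y hy z hz => hs.commute_fix hy hz.1
  generalize r * r = q at h0 hq ⊢
  generalize ⁅r, cj x r 1⁆ = a at h0 ha ⊢
  generalize ⁅r, cj x r 2⁆ = b at h0 hb ⊢
  let Q : Fix x R := ⟨q, hq⟩
  let A : Fix x R := ⟨a, ha⟩
  let B : Fix x R := ⟨b, hb⟩
  letI : CommGroup (Fix x R) := { (inferInstance : Group (Fix x R)) with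
    mul_comm := fun y z => Subtype.ext (hcomm y y.2 z z.2).eq }
  have h2 : ∀ Y : Fix x R, Y ^ 2 = 1 := fun Y => Subtype.ext (by
    rw [pow_two]; exact hs.sq_fixed Y Y.2)
  have h1 : Q ^ 5 * A ^ 5 * B ^ 5 = 1 := by
    have h0' : Q * Q * A * Q * (B * A) * Q * (B * B * A) * Q * (A * B * B * A) = 1 :=
      Subtype.ext (by simpa [mul_assoc, Q, A, B] using h0)
    rw [← h0']
    simp only [pow_succ, pow_zero, one_mul]
    ac_rfl
  have h3 : Q * A * B = 1 := by
    have h5' : ∀ Y : Fix x R, Y ^ 5 = Y := fun Y => by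
      rw [show (5 : ℕ) = 2 + 2 + 1 by rfl, pow_add, pow_add, h2, one_mul, one_mul, pow_one]
    rwa [h5', h5', h5'] at h1
  have h4 : Q = A * B := by
    rw [mul_assoc] at h3
    rw [eq_inv_of_mul_eq_one_left h3, inv_eq_iff_mul_eq_one, ← pow_two, h2]
  exact congrArg Subtype.val h4

/-- A subgroup containing the fixed points and all conjugates of `r` is everything. -/
theorem Spec.eq_top_of_cj {r : G} (hr : r ∈ R) (hr' : r ∉ Fix x R) {U : Subgroup G}
    (hZ : Fix x R ≤ U) (hU : ∀ i, i < 5 → cj x r i ∈ U) : R ≤ U := by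
  let S : Set G := (Fix x R : Set G) ∪ {g | ∃ i, i < 5 ∧ cj x r i = g}
  have hSR : Subgroup.closure S ≤ R := (closure_le R).2 (Set.union_subset inf_le_left
    fun g ⟨i, _, e⟩ => e ▸ hs.cj_mem hr i)
  have hZS : Fix x R ≤ Subgroup.closure S := fun g hg => Subgroup.subset_closure (Or.inl hg)
  have hx : x ∈ normalizer (Subgroup.closure S : Set G) := by
    refine Coprime.mem_normalizer_of_map_conj (eq_of_le_of_card_ge ?_
      (Nat.card_congr (equivMapOfInjective _ _ (MulAut.conj x).injective).toEquiv).le)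
    rw [MonoidHom.map_closure, closure_le]
    rintro _ ⟨g, hg, rfl⟩
    show x * g * x⁻¹ ∈ Subgroup.closure S
    rcases hg with hg | ⟨i, hi, rfl⟩
    · exact hZS ((mem_normalizer_iff.1 hs.x_normalizes g).1 hg)
    · have e : x * cj x r i * x⁻¹ = cj x r (i + 1) := by simp only [cj, pow_succ']; group
      rw [e]
      by_cases hi4 : i + 1 < 5
      · exact Subgroup.subset_closure (Or.inr ⟨_, hi4, rfl⟩)
      · obtain rfl : i = 4 := by omega
        rw [show cj x r (4 + 1) = r * (r⁻¹ * cj x r 5) from (mul_inv_cancel_left _ _).symm]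
        exact mul_mem (Subgroup.subset_closure (Or.inr ⟨0, by omega, by simp [cj]⟩))
          (hZS (hs.cj_five hr))
  have h := hs.eq_of_invariant hZS hSR hx fun e => hr' (e ▸ Subgroup.subset_closure
    (Or.inr ⟨0, by omega, by simp [cj]⟩))
  exact h.ge.trans ((closure_le U).2 (Set.union_subset hZ fun g ⟨i, hi, e⟩ => e ▸ hU i hi))

/-- All commutators and squares lie in the subgroup generated by two commutators. -/
theorem Spec.fix_eq {r : G} (hr : r ∈ R) (hr' : r ∉ Fix x R) :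
    Fix x R = Subgroup.closure {⁅r, cj x r 1⁆, ⁅r, cj x r 2⁆} := by
  set A := Subgroup.closure {⁅r, cj x r 1⁆, ⁅r, cj x r 2⁆} with hA
  have hAZ : A ≤ Fix x R := (closure_le _).2 (Set.insert_subset (hs.comm_mem hr (hs.cj_mem hr 1))
    (Set.singleton_subset_iff.2 (hs.comm_mem hr (hs.cj_mem hr 2))))
  have h1 : ⁅r, cj x r 1⁆ ∈ A := Subgroup.subset_closure (Or.inl rfl)
  have h2 : ⁅r, cj x r 2⁆ ∈ A := Subgroup.subset_closure (Or.inr rfl)
  obtain ⟨ht3, ht4⟩ := hs.comm_table hr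
  have hij : ∀ i j, i ≤ j → j < 5 → ⁅cj x r i, cj x r j⁆ ∈ A := by
    intro i j hij hj
    obtain ⟨k, rfl⟩ := Nat.exists_eq_add_of_le hij
    have h := hs.comm_shift hr i 0 k
    rw [add_zero, show cj x r 0 = r by simp [cj]] at h
    rw [h]
    have hk : k < 5 := by omega
    interval_cases k
    · simp [cj]
    · exact h1
    · exact h2
    · exact ht3 ▸ h2
    · exact ht4 ▸ h1
  have hall : ∀ i j, i < 5 → j < 5 → ⁅cj x r i, cj x r j⁆ ∈ A := fun i j hi hj =>
    (le_total i j).elim (fun h => hij i j h hj)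
      (fun h => hs.comm_self (hs.cj_mem hr j) (hs.cj_mem hr i) ▸ hij j i h hi)
  let U (a : G) (ha : a ∈ R) : Subgroup G :=
    { carrier := {g | g ∈ R ∧ ⁅a, g⁆ ∈ A}
      one_mem' := ⟨one_mem R, by simp⟩
      mul_mem' := fun {g h} hg hh => ⟨mul_mem hg.1 hh.1, by
        rw [hs.comm_mul_right ha hg.1 hh.1]; exact mul_mem hg.2 hh.2⟩
      inv_mem' := fun {g} hg => ⟨inv_mem hg.1, by
        have h := hs.comm_mul_right ha hg.1 (inv_mem hg.1)
        rw [mul_inv_cancel, commutatorElement_one_right] at h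
        exact (eq_inv_of_mul_eq_one_right h.symm) ▸ inv_mem hg.2⟩ }
  have hZU : ∀ a (ha : a ∈ R), Fix x R ≤ U a ha := fun a ha z hz =>
    ⟨hz.1, by rw [hs.comm_fix ha hz]; exact one_mem _⟩
  have hcomm : ∀ a ∈ R, ∀ b ∈ R, ⁅a, b⁆ ∈ A := by
    intro a ha b hb
    refine (hs.eq_top_of_cj hr hr' (hZU a ha) (fun i hi => ⟨hs.cj_mem hr i, ?_⟩) hb).2
    rw [← hs.comm_self ha (hs.cj_mem hr i)]
    exact (hs.eq_top_of_cj hr hr' (hZU _ (hs.cj_mem hr i))
      (fun j hj => ⟨hs.cj_mem hr j, hall i j hi hj⟩) ha).2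
  let W : Subgroup G :=
    { carrier := {g | g ∈ R ∧ g * g ∈ A}
      one_mem' := ⟨one_mem R, by simp⟩
      mul_mem' := fun {g h} hg hh => ⟨mul_mem hg.1 hh.1, by
        rw [hs.sq_mul hg.1 hh.1]
        exact mul_mem (mul_mem hg.2 hh.2) (hcomm _ hg.1 _ hh.1)⟩
      inv_mem' := fun {g} hg => ⟨inv_mem hg.1, by rw [← mul_inv_rev]; exact inv_mem hg.2⟩ }
  have hW : R ≤ W := hs.eq_top_of_cj hr hr'
    (fun z hz => ⟨hz.1, by rw [hs.sq_fixed z hz]; exact one_mem _⟩)
    fun i _ => ⟨hs.cj_mem hr i, by rw [hs.cj_sq hr, hs.sq_eq hr]; exact mul_mem h1 h2⟩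
  refine le_antisymm ?_ hAZ
  rw [show Fix x R = _ from hs.gen_sq, closure_le]
  rintro _ ⟨a, ha, rfl⟩
  rw [pow_two]
  exact (hW ha).2

theorem Spec.fix_le_commutator : Fix x R ≤ ⁅R, R⁆ := by
  obtain ⟨r, hr, hr'⟩ := SetLike.exists_of_lt hs.fix_lt
  rw [hs.fix_eq hr hr', closure_le]
  exact Set.insert_subset (commutator_mem_commutator hr (hs.cj_mem hr 1))
    (Set.singleton_subset_iff.2 (commutator_mem_commutator hr (hs.cj_mem hr 2)))

omit hs in
/-- A subgroup of exponent two generated by two commuting elements has order at most four. -/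
theorem card_closure_pair {a b : G} (hab : Commute a b) (ha : a * a = 1) (hb : b * b = 1) :
    Nat.card (Subgroup.closure ({a, b} : Set G)) ≤ 4 := by
  have hle : zpowers a ≤ normalizer (zpowers b : Set G) := zpowers_le.2 <|
    centralizer_le_normalizer _ (mem_centralizer_iff.2 fun z hz => by
      obtain ⟨i, rfl⟩ := mem_zpowers_iff.1 hz
      exact (hab.zpow_right i).eq.symm)
  rw [Set.insert_eq, Subgroup.closure_union, ← zpowers_eq_closure, ← zpowers_eq_closure]
  have h2 : ∀ c : G, c * c = 1 → Nat.card (zpowers c) ≤ 2 := fun c hc => by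
    rw [Nat.card_zpowers]
    exact Nat.le_of_dvd two_pos (orderOf_dvd_of_pow_eq_one (by rw [pow_two]; exact hc))
  have hsurj : Function.Surjective (fun p : zpowers a × zpowers b =>
      (⟨(p.1 : G) * p.2, mul_mem (mem_sup_left p.1.2) (mem_sup_right p.2.2)⟩ :
        ↥(zpowers a ⊔ zpowers b))) := by
    rintro ⟨g, hg⟩
    rw [← SetLike.mem_coe, coe_mul_of_left_le_normalizer_right _ _ hle] at hg
    obtain ⟨u, hu, v, hv, rfl⟩ := hg
    exact ⟨(⟨u, hu⟩, ⟨v, hv⟩), rfl⟩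
  refine (Nat.card_le_card_of_surjective _ hsurj).trans ?_
  rw [Nat.card_prod]
  exact Nat.mul_le_mul (h2 a ha) (h2 b hb)

theorem Spec.card_fix_le : Nat.card (Fix x R) ≤ 4 := by
  obtain ⟨r, hr, hr'⟩ := SetLike.exists_of_lt hs.fix_lt
  have ha := hs.comm_mem hr (hs.cj_mem hr 1)
  have hb := hs.comm_mem hr (hs.cj_mem hr 2)
  rw [hs.fix_eq hr hr']
  exact card_closure_pair (hs.commute_fix ha hb.1) (hs.sq_fixed _ ha) (hs.sq_fixed _ hb)

/-- With an involution outside the fixed points, these have order at most two and the commutators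
of the conjugates of the involution are all equal. -/
theorem Spec.fix_eq_of_involution {e : G} (he : e ∈ R) (he2 : e * e = 1) (he' : e ∉ Fix x R) :
    Fix x R = zpowers ⁅e, cj x e 1⁆ ∧ ⁅e, cj x e 2⁆ = ⁅e, cj x e 1⁆ := by
  have h := hs.sq_eq he
  rw [he2] at h
  have hb := hs.comm_mem he (hs.cj_mem he 2)
  have heq : ⁅e, cj x e 2⁆ = ⁅e, cj x e 1⁆ :=
    (inv_eq_of_mul_eq_one_left h.symm).symm.trans (inv_eq_of_mul_eq_one_right (hs.sq_fixed _ hb))
      |>.symm
  refine ⟨?_, heq⟩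
  rw [hs.fix_eq he he', heq, zpowers_eq_closure]
  simp

theorem Spec.card_fix_of_involution {e : G} (he : e ∈ R) (he2 : e * e = 1) (he' : e ∉ Fix x R) :
    Nat.card (Fix x R) ≤ 2 := by
  rw [(hs.fix_eq_of_involution he he2 he').1, Nat.card_zpowers]
  exact Nat.le_of_dvd two_pos (orderOf_dvd_of_pow_eq_one (by
    rw [pow_two]; exact hs.sq_fixed _ (hs.comm_mem he (hs.cj_mem he 1))))

/-- Two commuting involutions outside the fixed points agree modulo them. -/
theorem Spec.involution_unique (hne : Fix x R ≠ ⊥) {e f : G} (he : e ∈ R) (he2 : e * e = 1)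
    (he' : e ∉ Fix x R) (hf : f ∈ R) (hf2 : f * f = 1) (hf' : f ∉ Fix x R) (hef : Commute e f) :
    e⁻¹ * f ∈ Fix x R := by
  obtain ⟨hZ, h12⟩ := hs.fix_eq_of_involution he he2 he'
  obtain ⟨ht3, ht4⟩ := hs.comm_table he
  set a := ⁅e, cj x e 1⁆ with ha
  have hamem : a ∈ Fix x R := hs.comm_mem he (hs.cj_mem he 1)
  have ha2 : a * a = 1 := hs.sq_fixed _ hamem
  have ha1 : a ≠ 1 := fun h => hne (by rw [hZ, h, zpowers_one_eq_bot])
  have hm := fun i => hs.cj_mem he i
  have h0 : cj x e 0 = e := by simp [cj]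
  let sel : Bool → ℕ → G := fun b i => if b then cj x e i else 1
  have hsel : ∀ b i, sel b i ∈ R := fun b i => by
    cases b
    · exact one_mem R
    · exact hm i
  let P : Bool → Bool → Bool → Bool → G := fun b0 b1 b2 b3 =>
    sel b0 0 * sel b1 1 * sel b2 2 * sel b3 3
  have hP : ∀ b0 b1 b2 b3, P b0 b1 b2 b3 ∈ R := fun b0 b1 b2 b3 =>
    mul_mem (mul_mem (mul_mem (hsel b0 0) (hsel b1 1)) (hsel b2 2)) (hsel b3 3)
  haveI := subgroupOf_normal (R := R) (M := Fix x R) hs.normalizes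
  let π : R → R ⧸ (Fix x R).subgroupOf R := QuotientGroup.mk
  have hcm : ∀ u v : R, Commute (π u) (π v) := fun u v => by
    show π (u * v) = π (v * u)
    rw [mk_eq_mk_iff]
    have : (((u * v : R) : G))⁻¹ * ((v * u : R) : G) = ⁅(v : G)⁻¹, (u : G)⁻¹⁆ := by
      simp only [commutatorElement_def, Subgroup.coe_mul]; group
    rw [this]
    exact hs.comm_mem (inv_mem v.2) (inv_mem u.2)
  let S : Bool → ℕ → R := fun b i => ⟨sel b i, hsel b i⟩
  have hxor : ∀ b b' i, π (S b i) * π (S b' i) = π (S (xor b b') i) := by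
    intro b b' i
    show π (S b i * S b' i) = π (S (xor b b') i)
    refine congrArg π (Subtype.ext ?_)
    show sel b i * sel b' i = sel (xor b b') i
    cases b <;> cases b' <;> simp only [sel, Bool.false_eq_true, if_false, if_true, one_mul, mul_one,
      Bool.xor_false, Bool.false_xor, Bool.true_xor, Bool.not_true,
      hs.cj_sq he i, he2]
  let U : Subgroup G :=
    { carrier := {g | ∃ hg : g ∈ R, ∃ b0 b1 b2 b3,
        π ⟨g, hg⟩ = π (S b0 0) * π (S b1 1) * π (S b2 2) * π (S b3 3)}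
      one_mem' := ⟨one_mem R, false, false, false, false, by
        show π 1 = π (1 * 1 * 1 * 1)
        simp⟩
      mul_mem' := fun {g h} hg hh => by
        obtain ⟨hg', b0, b1, b2, b3, hgb⟩ := hg
        obtain ⟨hh', c0, c1, c2, c3, hhc⟩ := hh
        refine ⟨mul_mem hg' hh', xor b0 c0, xor b1 c1, xor b2 c2, xor b3 c3, ?_⟩
        show π ⟨g, hg'⟩ * π ⟨h, hh'⟩ = _
        rw [hgb, hhc, ← hxor, ← hxor, ← hxor, ← hxor]
        rw [(((hcm (S b3 3) (S c0 0)).mul_right (hcm (S b3 3) (S c1 1))).mul_right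
            (hcm (S b3 3) (S c2 2))).mul_mul_mul_comm,
          ((hcm (S b2 2) (S c0 0)).mul_right (hcm (S b2 2) (S c1 1))).mul_mul_mul_comm,
          (hcm (S b1 1) (S c0 0)).mul_mul_mul_comm]
      inv_mem' := fun {g} hg => by
        obtain ⟨hg', b0, b1, b2, b3, hgb⟩ := hg
        refine ⟨inv_mem hg', b0, b1, b2, b3, hgb ▸ ?_⟩
        show π _ = π _
        rw [mk_eq_mk_iff]
        simpa using hs.sq g hg' }
  have hRU : R ≤ U := hs.eq_top_of_cj he he'
    (fun z hz => ⟨hz.1, false, false, false, false, by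
      show π _ = π (1 * 1 * 1 * 1)
      rw [mk_eq_mk_iff]; simpa using inv_mem hz⟩)
    fun i hi => by
      refine ⟨hm i, ?_⟩
      interval_cases i
      · exact ⟨true, false, false, false, by show π _ = π (_ * 1 * 1 * 1); simp [S, sel]⟩
      · exact ⟨false, true, false, false, by show π _ = π (1 * _ * 1 * 1); simp [S, sel]⟩
      · exact ⟨false, false, true, false, by show π _ = π (1 * 1 * _ * 1); simp [S, sel]⟩
      · exact ⟨false, false, false, true, by show π _ = π (1 * 1 * 1 * _); simp [S, sel]⟩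
      · refine ⟨true, true, true, true, ?_⟩
        show π _ = π (_ * _ * _ * _)
        rw [mk_eq_mk_iff]
        have h4 : cj x e 4 * cj x e 4 = 1 := by rw [hs.cj_sq he]; exact he2
        have hc := (mem_normalizer_iff.1 (hs.normalizes (hm 4)) _).1 (hs.norm_mem he)
        show (cj x e 4)⁻¹ * (cj x e 0 * cj x e 1 * cj x e 2 * cj x e 3) ∈ Fix x R
        rw [inv_eq_of_mul_eq_one_right h4]
        simpa [mul_assoc] using hc
  obtain ⟨hfR, b0, b1, b2, b3, hfb⟩ := hRU hf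
  have hz : (P b0 b1 b2 b3)⁻¹ * f ∈ Fix x R :=
    (mk_eq_mk_iff (a := S b0 0 * S b1 1 * S b2 2 * S b3 3) (b := (⟨f, hfR⟩ : R))).1 hfb.symm
  have hfP : f = P b0 b1 b2 b3 * ((P b0 b1 b2 b3)⁻¹ * f) := by group
  have hsq : P b0 b1 b2 b3 * P b0 b1 b2 b3 = 1 := by
    rw [hfP, hs.sq_mul (hP _ _ _ _) hz.1, hs.sq_fixed _ hz, hs.comm_fix (hP _ _ _ _) hz,
      mul_one, mul_one] at hf2
    exact hf2
  have hcomm0 : ⁅e, P b0 b1 b2 b3⁆ = 1 := by
    rw [← hs.comm_congr he (hP b0 b1 b2 b3) hz]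
    exact commutatorElement_eq_one_iff_mul_comm.2 hef.eq
  have e01 : ⁅e, cj x e 1⁆ = a := rfl
  have e02 : ⁅e, cj x e 2⁆ = a := h12
  have e03 : ⁅e, cj x e 3⁆ = a := ht3.trans h12
  have hsh : ∀ k j, ⁅cj x e k, cj x e (k + j)⁆ = ⁅e, cj x e j⁆ := fun k j => by
    have h := hs.comm_shift he k 0 j
    rwa [add_zero, h0] at h
  have e12 : ⁅cj x e 1, cj x e 2⁆ = a := hsh 1 1
  have e13 : ⁅cj x e 1, cj x e 3⁆ = a := (hsh 1 2).trans h12
  have e23 : ⁅cj x e 2, cj x e 3⁆ = a := hsh 2 1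
  have key : b1 = false ∧ b2 = false ∧ b3 = false := by
    cases b1 <;> cases b2 <;> cases b3 <;>
      simp only [P, sel, Bool.false_eq_true, if_false, if_true, mul_one, h0] at hcomm0 hsq ⊢ <;>
      cases b0 <;>
      (try simp only [Bool.false_eq_true, if_false, if_true, mul_one, one_mul] at hcomm0 hsq) <;>
      (try simp only [hs.comm_mul_right, hs.sq_mul, hs.cj_sq he, he2, e01, e02, e03, e12, e13, e23,
        he, hm, mul_mem, commutatorElement_self, ha2, one_mul, mul_one,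
        hs.comm_mul_left] at hcomm0 hsq) <;>
      first
        | exact ⟨trivial, trivial, trivial⟩
        | exact absurd hcomm0 ha1
        | exact absurd hsq ha1
        | (rw [hs.comm_mul_right he (mul_mem (mul_mem he (hm 1)) (hm 2)) (hm 3),
            hs.comm_mul_right he (mul_mem he (hm 1)) (hm 2), hs.comm_mul_right he he (hm 1),
            commutatorElement_self, one_mul, e02, e03, e01, ha2, one_mul] at hcomm0
           exact absurd hcomm0 ha1)
  obtain ⟨rfl, rfl, rfl⟩ := key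
  cases b0
  · exact absurd (by simpa [P, sel] using hz) hf'
  · simpa [P, sel, h0] using hz

/-- No element of order three centralizing the fixed points commutes with `x` on the quotient and
moves it. -/
theorem Spec.order_three_trivial (hne : Fix x R ≠ ⊥) {g : G} (hgR : g ∈ normalizer (R : Set G))
    (hgZ : g ∈ centralizer (Fix x R : Set G))
    (hgx : ∀ a ∈ R, (g * x * a * (g * x)⁻¹)⁻¹ * (x * g * a * (x * g)⁻¹) ∈ Fix x R)
    (h3 : ∀ a ∈ R, a⁻¹ * (g ^ 3 * a * (g ^ 3)⁻¹) ∈ Fix x R) :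
    ∀ a ∈ R, a⁻¹ * (g * a * g⁻¹) ∈ Fix x R := by
  haveI := subgroupOf_normal (R := R) (M := Fix x R) hs.normalizes
  let V := R ⧸ (Fix x R).subgroupOf R
  let π : R → V := QuotientGroup.mk
  let xN : norm₂ R (Fix x R) := ⟨x, hs.norm, hs.x_normalizes⟩
  let gN : norm₂ R (Fix x R) := ⟨g, hgR, centralizer_le_normalizer _ hgZ⟩
  let X : MulAut V := sectionAct xN
  let T : MulAut V := sectionAct gN
  suffices hT : T = 1 from sectionAct_eq_one_iff.1 hT
  by_contra hT
  have hT3 : T ^ 3 = 1 := by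
    show sectionAct gN ^ 3 = 1
    rw [← map_pow, sectionAct_eq_one_iff]
    exact h3
  have hTX : Commute T X := by
    show T * X = X * T
    rw [← map_mul, ← map_mul]
    refine MulEquiv.ext fun q => ?_
    obtain ⟨a, rfl⟩ := QuotientGroup.mk_surjective q
    rw [sectionAct_mk, sectionAct_mk, mk_eq_mk_iff]
    exact hgx a a.2
  have hX5 : X ^ 5 = 1 := by
    show sectionAct xN ^ 5 = 1
    rw [← map_pow, sectionAct_eq_one_iff]
    exact fun a ha => hs.cj_five ha
  have hXfix : ∀ q : V, X q = q → q = 1 := by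
    intro q
    obtain ⟨a, rfl⟩ := QuotientGroup.mk_surjective q
    intro h
    exact mk_eq_one_iff.2 (hs.fpf' a a.2 (sectionAct_fix_iff.1 h))
  obtain ⟨r, hr, hr'⟩ := SetLike.exists_of_lt hs.fix_lt
  let v : V := π ⟨r, hr⟩
  have hv : v ≠ 1 := fun h => hr' (mk_eq_one_iff.1 h)
  have hXi : ∀ (i : ℕ) (a : R), (X ^ i) (π a) = π ⟨cj x a i, hs.cj_mem a.2 i⟩ := by
    intro i a
    show (sectionAct xN ^ i) (π a) = _
    rw [← map_pow]
    rfl
  have hfix : ∀ d : MulAut V, Commute d X → d v = v → d = 1 := by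
    intro d hd hdv
    let U : Subgroup G :=
      { carrier := {a | ∃ ha : a ∈ R, d (π ⟨a, ha⟩) = π ⟨a, ha⟩}
        one_mem' := ⟨one_mem R, map_one d⟩
        mul_mem' := fun {a b} ⟨ha, ha'⟩ ⟨hb, hb'⟩ => ⟨mul_mem ha hb, by
          show d (π ⟨a, ha⟩ * π ⟨b, hb⟩) = π ⟨a, ha⟩ * π ⟨b, hb⟩
          rw [map_mul, ha', hb']⟩
        inv_mem' := fun {a} ⟨ha, ha'⟩ => ⟨inv_mem ha, by
          show d (π ⟨a, ha⟩)⁻¹ = (π ⟨a, ha⟩)⁻¹
          rw [map_inv, ha']⟩ }
    have hU : R ≤ U := hs.eq_top_of_cj hr hr'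
      (fun z hz => ⟨hz.1, by
        rw [show π ⟨z, hz.1⟩ = 1 from mk_eq_one_iff.2 hz, map_one]⟩)
      fun i _ => ⟨hs.cj_mem hr i, by
        rw [show π ⟨cj x r i, hs.cj_mem hr i⟩ = (X ^ i) v from (hXi i ⟨r, hr⟩).symm,
          ← MulAut.mul_apply, (hd.pow_right i).eq, MulAut.mul_apply, hdv]⟩
    refine MulEquiv.ext fun q => ?_
    obtain ⟨a, rfl⟩ := QuotientGroup.mk_surjective q
    obtain ⟨_, h⟩ := hU a.2
    exact h
  have hX1 : X ≠ 1 := fun h => hv (hXfix v (by rw [h]; rfl))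
  have hoX : orderOf X = 5 := orderOf_eq_prime hX5 hX1
  have hoT : orderOf T = 3 := orderOf_eq_prime hT3 hT
  let F : Fin 5 × Fin 3 → {q : V // q ≠ 1} := fun ij =>
    ⟨(X ^ (ij.1 : ℕ) * T ^ (ij.2 : ℕ)) v, (map_ne_one_iff _ (MulEquiv.injective _)).2 hv⟩
  have hF : Function.Injective F := by
    rintro ⟨i, j⟩ ⟨i', j'⟩ h
    have h' : (X ^ (i : ℕ) * T ^ (j : ℕ)) v = (X ^ (i' : ℕ) * T ^ (j' : ℕ)) v :=
      congrArg Subtype.val h
    have hd : (X ^ (i' : ℕ) * T ^ (j' : ℕ))⁻¹ * (X ^ (i : ℕ) * T ^ (j : ℕ)) = 1 := by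
      refine hfix _ (Commute.mul_left (Commute.inv_left ?_) ?_) ?_
      · exact ((Commute.refl X).pow_left _).mul_left (hTX.pow_left _)
      · exact ((Commute.refl X).pow_left _).mul_left (hTX.pow_left _)
      · rw [MulAut.mul_apply, h', ← MulAut.mul_apply, inv_mul_cancel, MulAut.one_apply]
    have e : X ^ (i : ℕ) * T ^ (j : ℕ) = X ^ (i' : ℕ) * T ^ (j' : ℕ) :=
      (inv_mul_eq_one.1 hd).symm
    have e3 : X ^ (3 * (i : ℕ)) = X ^ (3 * (i' : ℕ)) := by
      have := congrArg (· ^ 3) e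
      simp only [(((hTX.symm).pow_left _).pow_right _).mul_pow, ← pow_mul] at this
      rwa [mul_comm (j : ℕ), mul_comm (j' : ℕ), pow_mul T, pow_mul T, hT3, one_pow, one_pow, mul_one,
        mul_one, mul_comm (i : ℕ), mul_comm (i' : ℕ)] at this
    rw [pow_eq_pow_iff_modEq, hoX, Nat.ModEq] at e3
    obtain rfl : i = i' := Fin.ext (by have := i.2; have := i'.2; omega)
    have e' := mul_left_cancel e
    rw [pow_eq_pow_iff_modEq, hoT, Nat.ModEq] at e'
    obtain rfl : j = j' := Fin.ext (by have := j.2; have := j'.2; omega)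
    rfl
  have hsurj : Function.Surjective F := by
    haveI := Fintype.ofFinite {q : V // q ≠ 1}
    refine ((Fintype.bijective_iff_injective_and_card F).2 ⟨hF, ?_⟩).2
    rw [Fintype.card_prod, Fintype.card_fin, Fintype.card_fin, ← Nat.card_eq_fintype_card]
    have h16 : Nat.card V = 16 := by
      rcases hs.relIndex_eq with ⟨-, h⟩ | ⟨h, -⟩
      · exact h
      · omega
    have : Nat.card {q : V // q ≠ 1} = Nat.card V - 1 := by
      have h1 := Set.ncard_compl ({1} : Set V)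
      rw [Set.ncard_singleton, ← Nat.card_coe_set_eq] at h1
      exact h1
    omega
  have hsq : ∀ s ∈ R, s ∉ Fix x R → s * s = r * r := by
    intro s hsR hs'
    obtain ⟨⟨i, j⟩, hij⟩ := hsurj ⟨π ⟨s, hsR⟩, fun h => hs' (mk_eq_one_iff.1 h)⟩
    have h1 : (X ^ (i : ℕ) * T ^ (j : ℕ)) v = π ⟨s, hsR⟩ := congrArg Subtype.val hij
    have h2 : X ^ (i : ℕ) * T ^ (j : ℕ) = sectionAct (xN ^ (i : ℕ) * gN ^ (j : ℕ)) := by
      rw [map_mul, map_pow, map_pow]
    rw [h2] at h1
    obtain ⟨d, hd⟩ : ∃ d : G, d = x ^ (i : ℕ) * g ^ (j : ℕ) := ⟨_, rfl⟩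
    have h4 : (d * r * d⁻¹)⁻¹ * s ∈ Fix x R := hd ▸ mk_eq_mk_iff.1 h1
    have hdR : d * r * d⁻¹ ∈ R := hd ▸
      (mem_normalizer_iff.1 (mul_mem (pow_mem hs.norm _) (pow_mem hgR _)) r).1 hr
    have e : s = d * r * d⁻¹ * ((d * r * d⁻¹)⁻¹ * s) := by group
    have hdd : d * r * d⁻¹ * (d * r * d⁻¹) = r * r := by
      have hcd : Commute d (r * r) := hd ▸ Commute.mul_left
        ((show Commute x (r * r) from (mem_fix_iff.1 (hs.sq r hr)).2).pow_left _)
        ((show Commute g (r * r) from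
          (mem_centralizer_iff.1 hgZ _ (hs.sq r hr)).symm).pow_left _)
      calc d * r * d⁻¹ * (d * r * d⁻¹) = d * (r * r) * d⁻¹ := by group
        _ = r * r := by rw [hcd.eq, mul_inv_cancel_right]
    rw [e, hs.sq_mul hdR h4.1, hs.sq_fixed _ h4, hs.comm_fix hdR h4, mul_one, mul_one, hdd]
  have hm := fun i => hs.cj_mem hr i
  have hnot : ∀ i, i = 1 ∨ i = 2 → r * cj x r i ∉ Fix x R ∧ cj x r i ∉ Fix x R := by
    intro i hi
    constructor
    · intro h
      have h' : r⁻¹ * cj x r i ∈ Fix x R := by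
        have h2 := mul_mem (inv_mem (hs.sq r hr)) h
        rwa [show (r * r)⁻¹ * (r * cj x r i) = r⁻¹ * cj x r i by group] at h2
      have hXv : (X ^ i) v = v := by
        rw [hXi]; exact ((mk_eq_mk_iff (a := (⟨r, hr⟩ : R))).2 h').symm
      have h1 := hfix (X ^ i) (Commute.pow_self X i) hXv
      rw [← orderOf_dvd_iff_pow_eq_one, hoX] at h1
      omega
    · intro h
      refine hr' ?_
      have := (mem_normalizer_iff.1 (inv_mem (pow_mem hs.x_normalizes i)) _).1 h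
      convert this using 1
      simp only [cj]; group
  have hq : ∀ i, i = 1 ∨ i = 2 → ⁅r, cj x r i⁆ = r * r := by
    intro i hi
    have h := hs.sq_mul hr (hm i)
    rwa [hsq _ (mul_mem hr (hm i)) (hnot i hi).1, hs.cj_sq hr, hs.sq_fixed _ (hs.sq r hr), one_mul,
      eq_comm] at h
  have hr2 : r * r = 1 := by
    have h := hs.sq_eq hr
    rw [hq 1 (Or.inl rfl), hq 2 (Or.inr rfl)] at h
    exact h.trans (hs.sq_fixed _ (hs.sq r hr))
  refine hne ?_
  rw [hs.fix_eq hr hr', hq 1 (Or.inl rfl), hq 2 (Or.inr rfl), hr2, Set.pair_eq_singleton,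
    Subgroup.closure_singleton_one]

end Cfsg.Agent.H60.NoMoved
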