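import Cfsg.Agent.H60.NoMoved.Special

/-!
# Consequences of `Spec`
-/

set_option autoImplicit false
set_option linter.style.haveILetI false
set_option linter.unusedSectionVars false
open Cfsg

namespace Cfsg.Agent.H60.NoMoved

open Subgroup
open scoped commutatorElement

universe u
variable {G : Type u} [Group G] [Finite G] {p : ℕ} [hp : Fact p.Prime] {x : G} {R : Subgroup G}

attribute [-simp] Subgroup.mem_inf Subgroup.inf_subgroupOf_left Subgroup.inf_subgroupOf_right

/-- The fixed points of `x` in `R`. -/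
abbrev Fix (x : G) (R : Subgroup G) : Subgroup G := R ⊓ centralizer ({x} : Set G)

theorem mem_fix_iff {a : G} : a ∈ Fix x R ↔ a ∈ R ∧ x * a = a * x := by
  rw [mem_inf, mem_centralizer_singleton_iff]
  exact and_congr_right fun _ => eq_comm

theorem card_eq_relIndex_mul {U N : Subgroup G} (h : N ≤ U) :
    Nat.card U = N.relIndex U * Nat.card N := by
  have h1 := (N.subgroupOf U).index_mul_card
  rwa [Nat.card_congr (Subgroup.subgroupOfEquivOfLe h).toEquiv,
    show (N.subgroupOf U).index = N.relIndex U from rfl, eq_comm] at h1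

section

variable (hs : Spec p x R)

include hs

theorem Spec.x_normalizes : x ∈ normalizer (Fix x R : Set G) :=
  centralizer_le_normalizer _ (mem_centralizer_iff.2 fun _ hz => (mem_fix_iff.1 hz).2.symm)

theorem Spec.normalizes : R ≤ normalizer (Fix x R : Set G) := fun g hg =>
  centralizer_le_normalizer _
    (mem_centralizer_iff.2 fun _ hz => (mem_centralizer_iff.1 (hs.central hz) g hg).symm)

theorem Spec.conj_mem {a : G} (ha : a ∈ R) : x * a * x⁻¹ ∈ R :=
  (mem_normalizer_iff.1 hs.norm a).1 ha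

theorem Spec.commute_fix {z a : G} (hz : z ∈ Fix x R) (ha : a ∈ R) : Commute z a :=
  (mem_centralizer_iff.1 (hs.central hz) a ha).symm

theorem Spec.comm_mem {a b : G} (ha : a ∈ R) (hb : b ∈ R) : ⁅a, b⁆ ∈ Fix x R := by
  have e : ⁅a, b⁆ = (a⁻¹ * a⁻¹)⁻¹ * (a⁻¹ * b * (a⁻¹ * b)) * (b * b)⁻¹ := by
    simp only [commutatorElement_def]; group
  rw [e]
  exact mul_mem (mul_mem (inv_mem (hs.sq _ (inv_mem ha))) (hs.sq _ (mul_mem (inv_mem ha) hb)))
    (inv_mem (hs.sq _ hb))

theorem Spec.comm_mul_left {a b c : G} (ha : a ∈ R) (hb : b ∈ R) (hc : c ∈ R) :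
    ⁅a * b, c⁆ = ⁅a, c⁆ * ⁅b, c⁆ := by
  have h := (hs.commute_fix (hs.comm_mem hb hc) ha).eq
  calc ⁅a * b, c⁆ = a * ⁅b, c⁆ * (c * a⁻¹ * c⁻¹) := by simp only [commutatorElement_def]; group
    _ = ⁅b, c⁆ * ⁅a, c⁆ := by rw [← h]; simp only [commutatorElement_def]; group
    _ = ⁅a, c⁆ * ⁅b, c⁆ := (hs.commute_fix (hs.comm_mem hb hc) (hs.comm_mem ha hc).1).eq

theorem Spec.comm_self {a b : G} (ha : a ∈ R) (hb : b ∈ R) : ⁅b, a⁆ = ⁅a, b⁆ := by
  rw [← commutatorElement_inv, inv_eq_iff_mul_eq_one]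
  exact hs.sq_fixed _ (hs.comm_mem ha hb)

theorem Spec.comm_mul_right {a b c : G} (ha : a ∈ R) (hb : b ∈ R) (hc : c ∈ R) :
    ⁅a, b * c⁆ = ⁅a, b⁆ * ⁅a, c⁆ := by
  rw [← hs.comm_self ha (mul_mem hb hc), hs.comm_mul_left hb hc ha, hs.comm_self ha hb,
    hs.comm_self ha hc]

theorem Spec.comm_fix {a z : G} (ha : a ∈ R) (hz : z ∈ Fix x R) : ⁅a, z⁆ = 1 :=
  commutatorElement_eq_one_iff_mul_comm.2 (hs.commute_fix hz ha).eq.symm

theorem Spec.sq_mul {a b : G} (ha : a ∈ R) (hb : b ∈ R) :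
    a * b * (a * b) = a * a * (b * b) * ⁅a, b⁆ := by
  have e : a * b * (a * b) = a * a * ⁅a⁻¹, b⁆ * (b * b) := by
    simp only [commutatorElement_def]; group
  have h1 : ⁅a⁻¹, b⁆ = ⁅a, b⁆ := by
    have h := hs.comm_mul_left (inv_mem ha) ha hb
    rw [inv_mul_cancel, commutatorElement_one_left] at h
    exact mul_right_cancel (h.symm.trans (hs.sq_fixed _ (hs.comm_mem ha hb)).symm)
  rw [e, h1, mul_assoc, (hs.commute_fix (hs.comm_mem ha hb) (mul_mem hb hb)).eq, ← mul_assoc]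

theorem Spec.fpf' : ∀ a ∈ R, a⁻¹ * (x * a * x⁻¹) ∈ Fix x R → a ∈ Fix x R := fun a ha h =>
  ⟨ha, hs.fpf a ha (by
    have := (mem_normalizer_iff.1 (hs.normalizes ha) _).1 h
    convert this using 1
    group)⟩

theorem Spec.relIndex_eq :
    p = 5 ∧ (Fix x R).relIndex R = 16 ∨ p = 7 ∧ (Fix x R).relIndex R = 8 := by
  have h1 := card_eq_relIndex_mul (inf_le_left : Fix x R ≤ R)
  have h2 : 0 < Nat.card (Fix x R) := Nat.card_pos
  rcases hs.card with ⟨h', h⟩ | ⟨h', h⟩
  · exact Or.inl ⟨h', Nat.eq_of_mul_eq_mul_right h2 (h1.symm.trans h)⟩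
  · exact Or.inr ⟨h', Nat.eq_of_mul_eq_mul_right h2 (h1.symm.trans h)⟩

theorem Spec.fix_lt : Fix x R < R := by
  refine lt_of_le_of_ne inf_le_left fun e => ?_
  have h := hs.relIndex_eq
  rw [e, relIndex_self] at h
  omega

theorem Spec.moved : ¬ R ≤ centralizer ({x} : Set G) := fun h =>
  hs.fix_lt.not_ge (le_inf le_rfl h)

/-- An invariant subgroup above the fixed points is trivial or everything modulo them. -/
theorem Spec.eq_of_invariant {U : Subgroup G} (hZU : Fix x R ≤ U) (hUR : U ≤ R)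
    (hxU : x ∈ normalizer (U : Set G)) (hne : U ≠ Fix x R) : U = R := by
  have hmod := relIndex_modEq hs.opGroup hxU hs.x_normalizes
    fun a ha h => hs.fpf' a (hUR ha) h
  have hne1 : (Fix x R).relIndex U ≠ 1 := fun e => hne (le_antisymm (relIndex_eq_one.1 e) hZU)
  have hmul := relIndex_mul_relIndex (Fix x R) U R hZU hUR
  refine le_antisymm hUR (relIndex_eq_one.1 ?_)
  have hR := hs.relIndex_eq
  have hpos : U.relIndex R ≠ 0 := Nat.pos_iff_ne_zero.1 (Nat.pos_of_ne_zero fun h => by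
    rw [h, mul_zero] at hmul; omega)
  have hle : (Fix x R).relIndex U ≤ 16 := by
    have h3 := Nat.le_mul_of_pos_right ((Fix x R).relIndex U) (Nat.pos_of_ne_zero hpos)
    omega
  generalize (Fix x R).relIndex U = a at *
  generalize U.relIndex R = b at *
  obtain ⟨hp5, hR⟩ | ⟨hp7, hR⟩ := hR <;> subst p <;> rw [hR] at hmul <;> rw [Nat.ModEq] at hmod <;>
    (interval_cases a <;> omega)

/-- The cosets of the fixed points outside them fall into orbits of length `p`. -/
theorem Spec.exists_orbit {r : G} (hr : r ∈ R) (hr' : r ∉ Fix x R) :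
    (∀ s ∈ R, s ∉ Fix x R → p = 7 → ∃ i : ℕ, s⁻¹ * (x ^ i * r * (x ^ i)⁻¹) ∈ Fix x R) ∧
      r⁻¹ * (x ^ p * r * (x ^ p)⁻¹) ∈ Fix x R := by
  letI := cosetAction hs.norm hs.x_normalizes
  obtain ⟨j, hj⟩ := hs.opGroup.card_orbit (QuotientGroup.mk (s := (Fix x R).subgroupOf R) ⟨r, hr⟩)
  have hone : (QuotientGroup.mk (1 : R) : R ⧸ (Fix x R).subgroupOf R) ∉
      MulAction.orbit (zpowers x) (QuotientGroup.mk (⟨r, hr⟩ : R)) := by
    rintro ⟨z, hz⟩
    have h1 : (z : G) * r * (z : G)⁻¹ ∈ Fix x R := by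
      have := QuotientGroup.eq.1 (hz : QuotientGroup.mk (s := (Fix x R).subgroupOf R) _ = _)
      simpa [mem_subgroupOf] using this
    have h2 := (mem_normalizer_iff.1 ((zpowers_le.2 hs.x_normalizes) (inv_mem z.2)) _).1 h1
    refine hr' ?_
    convert h2 using 1
    group
  have hlt : p ^ j < (Fix x R).relIndex R := by
    have hc : Nat.card (MulAction.orbit (zpowers x)
        (QuotientGroup.mk (s := (Fix x R).subgroupOf R) (⟨r, hr⟩ : R))) <
        Nat.card (Set.univ : Set (R ⧸ (Fix x R).subgroupOf R)) :=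
      Set.Finite.card_lt_card Set.finite_univ
        (Set.ssubset_univ_iff.2 fun h => hone (Set.eq_univ_iff_forall.1 h _))
    rw [Nat.card_univ, hj] at hc
    exact hc
  have hp2 := hp.out.two_le
  have hle : j ≤ 1 := by
    by_contra h
    have h3 := Nat.pow_le_pow_right hp.out.pos (Nat.not_le.1 h : 2 ≤ j)
    have h4 := hs.relIndex_eq
    rcases h4 with ⟨rfl, h5⟩ | ⟨rfl, h5⟩ <;> omega
  have hidx : (MulAction.stabilizer (zpowers x)
      (QuotientGroup.mk (s := (Fix x R).subgroupOf R) (⟨r, hr⟩ : R))).index = p ^ j := by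
    rw [← hj, MulAction.index_stabilizer]
    exact (Nat.card_coe_set_eq _).symm
  refine ⟨fun s hsR hs' h7 => ?_, ?_⟩
  · have hj1 : j = 1 := by
      refine le_antisymm hle (Nat.one_le_iff_ne_zero.2 fun h => ?_)
      rw [h, pow_zero] at hj
      have hsub := (Nat.card_eq_one_iff_unique.1 hj).1
      have hmem : (⟨x * r * x⁻¹, hs.conj_mem hr⟩ : R) = ⟨x * r * x⁻¹, hs.conj_mem hr⟩ := rfl
      have e := congrArg Subtype.val (hsub.elim
        ⟨_, MulAction.mem_orbit _ (⟨x, mem_zpowers x⟩ : zpowers x)⟩ ⟨_, MulAction.mem_orbit_self _⟩)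
      have e' := QuotientGroup.eq.1 (e : QuotientGroup.mk (s := (Fix x R).subgroupOf R) _ = _)
      have e'' : (x * r * x⁻¹)⁻¹ * r ∈ Fix x R := by simpa [mem_subgroupOf] using e'
      exact hr' (hs.fpf' r hr (by simpa using inv_mem e''))
    have h4 := hs.relIndex_eq
    subst h7
    rw [hj1, pow_one] at hj
    have heq : MulAction.orbit (zpowers x) (QuotientGroup.mk (s := (Fix x R).subgroupOf R) (⟨r, hr⟩ : R))
        = {QuotientGroup.mk (1 : R)}ᶜ := by
      refine Set.eq_of_subset_of_ncard_le (fun q hq he => hone (he ▸ hq)) ?_ (Set.toFinite _)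
      have h5 : ({QuotientGroup.mk (1 : R)}ᶜ : Set (R ⧸ (Fix x R).subgroupOf R)).ncard =
          (Fix x R).relIndex R - 1 := by
        rw [Set.ncard_compl, Set.ncard_singleton]; rfl
      rw [h5, ← Nat.card_coe_set_eq, hj]
      omega
    have hmem : QuotientGroup.mk (s := (Fix x R).subgroupOf R) (⟨s, hsR⟩ : R) ∈
        MulAction.orbit (zpowers x) (QuotientGroup.mk (s := (Fix x R).subgroupOf R) (⟨r, hr⟩ : R)) := by
      rw [heq]
      intro he
      have := QuotientGroup.eq.1 (he : QuotientGroup.mk (s := (Fix x R).subgroupOf R) _ = _)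
      exact hs' (inv_mem_iff.1 (by simpa [mem_subgroupOf] using this))
    obtain ⟨⟨z, hz⟩, hzs⟩ := hmem
    obtain ⟨i, rfl⟩ : ∃ i : ℕ, x ^ i = z := mem_powers_iff_mem_zpowers.2 hz
    refine ⟨i, ?_⟩
    have e' := QuotientGroup.eq.1 (hzs : QuotientGroup.mk (s := (Fix x R).subgroupOf R) _ = _)
    have e'' : (x ^ i * r * (x ^ i)⁻¹)⁻¹ * s ∈ Fix x R := by simpa [mem_subgroupOf] using e'
    simpa using inv_mem e''
  · have hnorm : (MulAction.stabilizer (zpowers x)
        (QuotientGroup.mk (s := (Fix x R).subgroupOf R) (⟨r, hr⟩ : R))).Normal := inferInstance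
    have hmem := Subgroup.pow_index_mem (MulAction.stabilizer (zpowers x)
        (QuotientGroup.mk (s := (Fix x R).subgroupOf R) (⟨r, hr⟩ : R))) (⟨x, mem_zpowers x⟩ : zpowers x)
    rw [hidx] at hmem
    have hmem' : (⟨x, mem_zpowers x⟩ : zpowers x) ^ p ∈ MulAction.stabilizer (zpowers x)
        (QuotientGroup.mk (s := (Fix x R).subgroupOf R) (⟨r, hr⟩ : R)) := by
      interval_cases j
      · rw [pow_zero, pow_one] at hmem; exact pow_mem hmem p
      · rwa [pow_one] at hmem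
    have e' := QuotientGroup.eq.1
      (hmem' : QuotientGroup.mk (s := (Fix x R).subgroupOf R) _ = _)
    have e'' : (x ^ p * r * (x ^ p)⁻¹)⁻¹ * r ∈ Fix x R := by simpa [mem_subgroupOf] using e'
    simpa using inv_mem e''

/-- In the case `p = 7`, `R` is elementary of order eight. -/
theorem Spec.seven (h7 : p = 7) :
    Nat.card R = 8 ∧ (∀ a ∈ R, a * a = 1) ∧ ∀ a ∈ R, ∀ b ∈ R, a * b = b * a := by
  obtain ⟨r, hr, hr'⟩ := SetLike.exists_of_lt hs.fix_lt
  have hsq : ∀ s ∈ R, s ∉ Fix x R → s * s = r * r := by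
    intro s hsR hs'
    obtain ⟨i, hi⟩ := (hs.exists_orbit hr hr').1 s hsR hs' h7
    obtain ⟨z, hz, e⟩ : ∃ z ∈ Fix x R, s * z = x ^ i * r * (x ^ i)⁻¹ :=
      ⟨_, hi, mul_inv_cancel_left _ _⟩
    have h1 : s * z * (s * z) = s * s := by
      rw [hs.sq_mul hsR hz.1, hs.sq_fixed z hz, hs.comm_fix hsR hz, mul_one, mul_one]
    have h2 : Commute (r * r) (x ^ i) :=
      ((show Commute (r * r) x from mem_centralizer_singleton_iff.1 (hs.sq r hr).2).pow_right i)
    rw [← h1, e]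
    calc x ^ i * r * (x ^ i)⁻¹ * (x ^ i * r * (x ^ i)⁻¹) = x ^ i * (r * r) * (x ^ i)⁻¹ := by group
      _ = r * r := by rw [← h2.eq, mul_inv_cancel_right]
  -- choose three independent elements
  have hcard : (Fix x R).relIndex R = 8 := by
    have := hs.relIndex_eq; omega
  have hB : ∀ a : G, a ∈ R → ∀ B : Subgroup G, Fix x R ≤ B → B ≤ R → (Fix x R).relIndex B ≤ 4 →
      ∃ t ∈ R, t ∉ B := by
    intro a _ B hB hBR h4
    by_contra hc
    push Not at hc
    rw [le_antisymm hBR hc, hcard] at h4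
    omega
  have hgrow : ∀ B : Subgroup G, Fix x R ≤ B → B ≤ R → ∀ t ∈ R, ∃ B', B ≤ B' ∧ t ∈ B' ∧ B' ≤ R ∧
      Fix x R ≤ B' ∧ B.relIndex B' ≤ 2 := by
    intro B hB hBR t ht
    have hnB : ∀ g ∈ R, g ∈ normalizer (B : Set G) := fun g hg => mem_normalizer_iff.2 fun b => by
      have key : ∀ g ∈ R, ∀ b ∈ B, g * b * g⁻¹ ∈ B := fun g hg b hb => by
        have e : g * b * g⁻¹ = ⁅g, b⁆ * b := by simp only [commutatorElement_def]; group
        exact e ▸ mul_mem (hB (hs.comm_mem hg (hBR hb))) hb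
      refine ⟨key g hg b, fun h => ?_⟩
      have := key g⁻¹ (inv_mem hg) _ h
      simpa [mul_assoc] using this
    refine ⟨B ⊔ zpowers t, le_sup_left, mem_sup_right (mem_zpowers t),
      sup_le hBR (zpowers_le.2 ht), hB.trans le_sup_left, ?_⟩
    have ht2 : t * t ∈ B := hB (hs.sq t ht)
    have hsub : ∀ g ∈ B ⊔ zpowers t, g ∈ B ∨ t⁻¹ * g ∈ B := by
      intro g hg
      rw [sup_comm, ← SetLike.mem_coe, coe_mul_of_left_le_normalizer_right _ _
        (zpowers_le.2 (hnB t ht))] at hg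
      obtain ⟨u, hu, b, hb, rfl⟩ := hg
      obtain ⟨n, rfl⟩ := mem_zpowers_iff.1 hu
      rcases Int.even_or_odd' n with ⟨m, rfl | rfl⟩
      · refine Or.inl (mul_mem ?_ hb)
        rw [zpow_mul, zpow_two]
        exact zpow_mem ht2 m
      · refine Or.inr ?_
        rw [zpow_add, zpow_mul, zpow_two, zpow_one, ← mul_assoc, ← mul_assoc,
          (Commute.zpow_right (show Commute t (t * t) from (Commute.refl t).mul_right (Commute.refl t)) m).inv_left.eq,
          inv_mul_cancel_right]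
        exact mul_mem (zpow_mem ht2 m) hb
    have htm : t ∈ B ⊔ zpowers t := mem_sup_right (mem_zpowers t)
    have : Function.Surjective (fun b : Bool => (QuotientGroup.mk
        (if b then (⟨t, htm⟩ : ↥(B ⊔ zpowers t)) else 1) :
          ↥(B ⊔ zpowers t) ⧸ B.subgroupOf (B ⊔ zpowers t))) := by
      intro q
      obtain ⟨⟨g, hg⟩, rfl⟩ := QuotientGroup.mk_surjective q
      rcases hsub g hg with h | h
      · exact ⟨false, QuotientGroup.eq.2 (by simpa [mem_subgroupOf] using h)⟩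
      · exact ⟨true, QuotientGroup.eq.2 (by simpa [mem_subgroupOf] using h)⟩
    exact (Nat.card_le_card_of_surjective _ this).trans_eq (by simp)
  obtain ⟨B1, hB1, hrB1, hB1R, hFB1, hi1⟩ := hgrow _ le_rfl inf_le_left r hr
  obtain ⟨s, hsR, hsB1⟩ := hB r hr B1 hFB1 hB1R (by omega)
  obtain ⟨B2, hB12, hsB2, hB2R, hFB2, hi2⟩ := hgrow B1 hFB1 hB1R s hsR
  have h12 := relIndex_mul_relIndex (Fix x R) B1 B2 hFB1 hB12
  obtain ⟨t, htR, htB2⟩ := hB r hr B2 hFB2 hB2R (by rw [← h12]; nlinarith)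
  have hs' : s ∉ Fix x R := fun h => hsB1 (hFB1 h)
  have ht' : t ∉ Fix x R := fun h => htB2 (hFB2 h)
  have hpair : ∀ u ∈ R, ∀ v ∈ R, u ∉ Fix x R → v ∉ Fix x R → u * v ∉ Fix x R → ⁅u, v⁆ = r * r := by
    intro u hu v hv hu' hv' huv
    have h := hs.sq_mul hu hv
    rwa [hsq _ (mul_mem hu hv) huv, hsq u hu hu', hsq v hv hv',
      hs.sq_fixed _ (hs.sq r hr), one_mul, eq_comm] at h
  have hrs : r * s ∉ Fix x R := fun h => hsB1 (by
    simpa using mul_mem (inv_mem hrB1) (hFB1 h))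
  have hts : t * s ∉ Fix x R := fun h => htB2 (by simpa using mul_mem (hFB2 h) (inv_mem hsB2))
  have htr : t * r ∉ Fix x R := fun h => htB2 (by simpa using mul_mem (hFB2 h) (inv_mem (hB12 hrB1)))
  have htrs : t * (r * s) ∉ Fix x R := fun h => htB2 (by
    simpa [mul_assoc] using mul_mem (hFB2 h) (inv_mem (mul_mem (hB12 hrB1) hsB2)))
  have hr2 : r * r = 1 := by
    have h := hs.comm_mul_right htR hr hsR
    rw [hpair t htR _ (mul_mem hr hsR) ht' hrs htrs, hpair t htR r hr ht' hr' htr,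
      hpair t htR s hsR ht' hs' hts] at h
    exact h.trans (hs.sq_fixed _ (hs.sq r hr))
  have hall : ∀ a ∈ R, a * a = 1 := fun a ha => by
    by_cases h : a ∈ Fix x R
    · exact hs.sq_fixed a h
    · rw [hsq a ha h, hr2]
  have hbot : Fix x R = ⊥ := by
    rw [show Fix x R = _ from hs.gen_sq, Subgroup.closure_eq_bot_iff]
    rintro _ ⟨a, ha, rfl⟩
    rw [pow_two]
    exact hall a ha
  refine ⟨?_, hall, fun a ha b hb => ?_⟩
  · rw [card_eq_relIndex_mul (inf_le_left : Fix x R ≤ R), hcard,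
      show R ⊓ centralizer ({x} : Set G) = ⊥ from hbot]
    simp
  · have := hs.comm_mem ha hb
    rw [hbot, mem_bot] at this
    exact commutatorElement_eq_one_iff_mul_comm.1 this

end

end Cfsg.Agent.H60.NoMoved
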