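import Cfsg.Agent.Coprime.Centralize
import Cfsg.Agent.PGroups.Commutator
import Mathlib

/-!
# Two-groups moved by a `p`-element all of whose invariant abelian subgroups are centralized

If `R = [R, x]` is a `2`-group of sectional rank at most four and `x`, a `p`-element with `p ≥ 5`,
centralizes the invariant normal abelian subgroups of `R`, then `R` is special, the fixed points
`Z` of `x` are the centre, `x` is fixed point free on `R / Z`, and `(p, |R/Z|)` is `(5, 16)` or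
`(7, 8)`.
-/

set_option autoImplicit false
set_option linter.style.haveILetI false
set_option linter.unusedSectionVars false
open Cfsg

namespace Cfsg.Agent.H60.NoMoved

open Subgroup
open scoped commutatorElement

universe u
variable {G : Type u} [Group G]

/-- A centralized invariant normal subgroup is central in `R = [R, x]`. -/
theorem le_centralizer_of_fixed {x : G} {R A : Subgroup G} (hgen : ⁅R, zpowers x⁆ = R)
    (hRA : R ≤ normalizer (A : Set G)) (hA : A ≤ centralizer ({x} : Set G)) :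
    A ≤ centralizer (R : Set G) := by
  rw [le_centralizer_iff, ← hgen, commutator_le]
  intro r hr z hz
  rw [mem_centralizer_iff]
  intro a ha
  have hzc : ∀ b ∈ A, z * b = b * z := fun b hb => by
    obtain ⟨n, rfl⟩ := mem_zpowers_iff.1 hz
    exact ((show Commute b x from mem_centralizer_singleton_iff.1 (hA hb)).zpow_right n).eq.symm
  have hb : r⁻¹ * a * r ∈ A := by
    simpa using (mem_normalizer_iff.1 (hRA (inv_mem hr)) a).1 ha
  have h1 := hzc _ hb
  have h2 : z⁻¹ * (r⁻¹ * a * r) = (r⁻¹ * a * r) * z⁻¹ := by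
    rw [eq_mul_inv_iff_mul_eq, mul_assoc, ← h1, inv_mul_cancel_left]
  have h3 : z⁻¹ * a = a * z⁻¹ := by
    rw [eq_mul_inv_iff_mul_eq, mul_assoc, ← hzc a ha, inv_mul_cancel_left]
  rw [commutatorElement_def]
  calc a * (r * z * r⁻¹ * z⁻¹) = r * ((r⁻¹ * a * r) * z) * r⁻¹ * z⁻¹ := by group
    _ = r * (z * (r⁻¹ * a * r)) * r⁻¹ * z⁻¹ := by rw [h1]
    _ = r * z * r⁻¹ * (a * z⁻¹) := by group
    _ = r * z * r⁻¹ * (z⁻¹ * a) := by rw [h3]
    _ = r * z * r⁻¹ * z⁻¹ * a := by group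

/-- Fixed points of a coprime operator on an abelian section that it generates by commutators. -/
theorem fixed_mem {x : G} {R N : Subgroup G} {n : ℕ} (hn : x ^ n = 1) (hodd : Odd n)
    (hxR : x ∈ normalizer (R : Set G))
    (hRN : R ≤ normalizer (N : Set G)) (hgen : ⁅R, zpowers x⁆ = R)
    (hcomm : ∀ a ∈ R, ∀ b ∈ R, a * b * a⁻¹ * b⁻¹ ∈ N) (hsq : ∀ a ∈ R, a * a ∈ N)
    {r : G} (hr : r ∈ R) (hfix : x * r = r * x) : r ∈ N := by
  let M : Subgroup R := N.subgroupOf R
  haveI : M.Normal := ⟨fun a ha g => by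
    simpa [M, mem_subgroupOf] using (mem_normalizer_iff.1 (hRN g.2) (a : G)).1 ha⟩
  let π : R →* R ⧸ M := QuotientGroup.mk' M
  have hc : ∀ a b : R ⧸ M, a * b = b * a := by
    intro a b
    obtain ⟨a, rfl⟩ := QuotientGroup.mk'_surjective M a
    obtain ⟨b, rfl⟩ := QuotientGroup.mk'_surjective M b
    rw [← commutatorElement_eq_one_iff_mul_comm, ← map_commutatorElement,
      QuotientGroup.mk'_apply, QuotientGroup.eq_one_iff]
    show ((⁅a, b⁆ : R) : G) ∈ N
    simpa [commutatorElement_def] using hcomm a a.2 b b.2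
  letI : CommGroup (R ⧸ M) := { (inferInstance : Group (R ⧸ M)) with mul_comm := hc }
  let φ : R →* R := (R.normalizerMonoidHom ⟨x, hxR⟩).toMonoidHom
  have hφ : ∀ (i : ℕ) (a : R), (((φ^[i]) a : R) : G) = x ^ i * a * (x ^ i)⁻¹ := by
    intro i a
    induction i with
    | zero => simp
    | succ i ih =>
      rw [Function.iterate_succ_apply', pow_succ']
      show x * (((φ^[i]) a : R) : G) * x⁻¹ = _
      rw [ih]
      group
  let μ : R →* R ⧸ M := MonoidHom.mk' (fun a => ∏ i ∈ Finset.range n, π ((φ^[i]) a)) fun a b => by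
    simp only [iterate_map_mul, map_mul, Finset.prod_mul_distrib]
  have hμφ : ∀ a, μ (φ a) = μ a := by
    intro a
    show ∏ i ∈ Finset.range n, π ((φ^[i]) (φ a)) = ∏ i ∈ Finset.range n, π ((φ^[i]) a)
    simp only [← Function.iterate_succ_apply]
    have h1 := Finset.prod_range_succ' (fun i => π ((φ^[i]) a)) n
    have h2 := Finset.prod_range_succ (fun i => π ((φ^[i]) a)) n
    have h0 : (φ^[n]) a = a := Subtype.ext (by rw [hφ, hn]; simp)
    rw [h2, h0, Function.iterate_zero_apply] at h1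
    exact (mul_right_cancel h1).symm
  have hker : R ≤ (μ.ker).map R.subtype := by
    conv_lhs => rw [← hgen]
    rw [commutator_le]
    intro a ha z hz
    obtain ⟨i, rfl⟩ : ∃ i : ℕ, x ^ i = z := by
      obtain ⟨k, rfl⟩ := mem_zpowers_iff.1 hz
      have hn0 : (n : ℤ) ≠ 0 := by exact_mod_cast hodd.pos.ne'
      refine ⟨(k % n).toNat, ?_⟩
      rw [← zpow_natCast, Int.toNat_of_nonneg (Int.emod_nonneg _ hn0)]
      exact (zpow_eq_zpow_emod' k hn).symm
    refine ⟨⟨a, ha⟩ * ((φ^[i]) ⟨a, ha⟩)⁻¹, ?_, ?_⟩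
    · have hk : ∀ j, μ ((φ^[j]) ⟨a, ha⟩) = μ ⟨a, ha⟩ := by
        intro j
        induction j with
        | zero => rfl
        | succ j ih => rw [Function.iterate_succ_apply', hμφ, ih]
      rw [SetLike.mem_coe, MonoidHom.mem_ker, map_mul, map_inv, hk, mul_inv_cancel]
    · show a * (((φ^[i]) ⟨a, ha⟩ : R) : G)⁻¹ = _
      rw [hφ, commutatorElement_def]
      group
  obtain ⟨⟨r', hr'⟩, hk, rfl⟩ := hker hr
  have hconst : ∀ i, (φ^[i]) ⟨r', hr'⟩ = ⟨r', hr'⟩ := by
    intro i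
    refine Subtype.ext ?_
    rw [hφ]
    rw [((show Commute x r' from hfix).pow_left i).eq, mul_inv_cancel_right]
  have hπn : π ⟨r', hr'⟩ ^ n = 1 := by
    have : μ ⟨r', hr'⟩ = 1 := hk
    simpa [μ, hconst] using this
  have hπ2 : π ⟨r', hr'⟩ ^ 2 = 1 := by
    rw [← map_pow, QuotientGroup.mk'_apply, QuotientGroup.eq_one_iff]
    show r' ^ 2 ∈ N
    rw [pow_two]
    exact hsq r' hr'
  have : π ⟨r', hr'⟩ = 1 := by
    obtain ⟨m, rfl⟩ := hodd
    rwa [pow_succ, pow_mul, hπ2, one_pow, one_mul] at hπn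
  exact (QuotientGroup.eq_one_iff (N := M) (⟨r', hr'⟩ : R)).1 this

section Class

variable [Finite G] {x : G} {R K : Subgroup G} (hR : IsPGroup 2 R) (hxK : x ∈ K) (hRK : R ≤ K)
  (hK : K ≤ normalizer (R : Set G)) (hgen : ⁅R, zpowers x⁆ = R)
  (hab : ∀ A ≤ R, (∀ a ∈ A, ∀ b ∈ A, a * b = b * a) → K ≤ normalizer (A : Set G) →
    A ≤ centralizer ({x} : Set G))

include hR hxK hRK hK hgen hab

omit [Finite G] hR hxK hK in
theorem central_of_abelian {A : Subgroup G} (hAR : A ≤ R) (hA : ∀ a ∈ A, ∀ b ∈ A, a * b = b * a)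
    (hKA : K ≤ normalizer (A : Set G)) : A ≤ centralizer (R : Set G) :=
  le_centralizer_of_fixed hgen (hRK.trans hKA) (hab A hAR hA hKA)

/-- The class is at most two. -/
theorem class_two : ⁅R, R⁆ ≤ centralizer (R : Set G) := by
  by_contra hcon
  have hKnorm : ∀ {U : Subgroup G}, K ≤ normalizer (U : Set G) →
      K ≤ normalizer ((⁅U, R⁆ : Subgroup G) : Set G) := by
    intro U hU k hk
    refine Coprime.mem_normalizer_of_map_conj ?_
    rw [map_commutator, Coprime.map_conj_eq (hU hk), Coprime.map_conj_eq (hK hk)]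
  obtain ⟨N, hN⟩ := exists_minimal_of_wellFoundedLT (α := Subgroup G)
    ( fun N => N ≤ ⁅R, R⁆ ∧ K ≤ normalizer (N : Set G) ∧ ¬ N ≤ centralizer (R : Set G))
    ⟨⁅R, R⁆, le_rfl, hKnorm hK, hcon⟩
  obtain ⟨hNR', hKN, hNC⟩ := hN.prop
  have hNR : N ≤ R := hNR'.trans (Coprime.commutator_le_left_of_normalizer le_normalizer)
  have hne : N ≠ ⊥ := fun e => hNC (e ▸ bot_le)
  have hlt : ⁅N, R⁆ < N :=
    Coprime.commutator_lt_of_isPGroup (hR.to_le hNR) hR (hRK.trans hKN) hne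
  have hc : ⁅N, R⁆ ≤ centralizer (R : Set G) := by
    by_contra h
    exact hlt.not_ge (hN.2 ⟨hlt.le.trans hNR', hKnorm hKN, h⟩ hlt.le)
  have h1 : ⁅⁅N, R⁆, R⁆ = ⊥ := commutator_eq_bot_iff_le_centralizer.2 hc
  have h2 : ⁅⁅R, N⁆, R⁆ = ⊥ := by rwa [commutator_comm R N]
  have h3 : ⁅⁅R, R⁆, N⁆ = ⊥ := commutator_commutator_eq_bot_of_rotate h2 h1
  have h4 : ⁅R, R⁆ ≤ centralizer (N : Set G) := commutator_eq_bot_iff_le_centralizer.1 h3
  exact hNC (central_of_abelian hRK hgen hab hNR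
    (fun a ha b hb => mem_centralizer_iff.1 (h4 (hNR' hb)) a ha) hKN)

theorem comm_central {a b : G} (ha : a ∈ R) (hb : b ∈ R) {c : G} (hc : c ∈ R) :
    ⁅a, b⁆ * c = c * ⁅a, b⁆ :=
  (mem_centralizer_iff.1 (class_two hR hxK hRK hK hgen hab (commutator_mem_commutator ha hb)) c
    hc).symm

theorem comm_mul_left {a b c : G} (ha : a ∈ R) (hb : b ∈ R) (hc : c ∈ R) :
    ⁅a * b, c⁆ = ⁅a, c⁆ * ⁅b, c⁆ := by
  have h := comm_central hR hxK hRK hK hgen hab hb hc ha
  calc ⁅a * b, c⁆ = a * ⁅b, c⁆ * (c * a⁻¹ * c⁻¹) := by simp only [commutatorElement_def]; group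
    _ = ⁅b, c⁆ * ⁅a, c⁆ := by rw [← h]; simp only [commutatorElement_def]; group
    _ = ⁅a, c⁆ * ⁅b, c⁆ := comm_central hR hxK hRK hK hgen hab hb hc
      (commutator_le_left_of_self ha hc)
where
  commutator_le_left_of_self {a c : G} (ha : a ∈ R) (hc : c ∈ R) : ⁅a, c⁆ ∈ R := by
    rw [commutatorElement_def]
    exact mul_mem (mul_mem (mul_mem ha hc) (inv_mem ha)) (inv_mem hc)

theorem comm_pow_left {a b : G} (ha : a ∈ R) (hb : b ∈ R) (n : ℕ) : ⁅a ^ n, b⁆ = ⁅a, b⁆ ^ n := by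
  induction n with
  | zero => simp
  | succ n ih => rw [pow_succ, comm_mul_left hR hxK hRK hK hgen hab (pow_mem ha n) ha hb, ih, pow_succ]

theorem comm_pow_right {a b : G} (ha : a ∈ R) (hb : b ∈ R) (n : ℕ) : ⁅a, b ^ n⁆ = ⁅a, b⁆ ^ n := by
  rw [← commutatorElement_inv, comm_pow_left hR hxK hRK hK hgen hab hb ha, ← inv_pow,
    commutatorElement_inv]

/-- The subgroup generated by the `n`-th powers. -/
theorem pow_closure_props (n : ℕ) (hn : ∀ a ∈ R, ∀ b ∈ R, ⁅a ^ n, b ^ n⁆ = 1) :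
    Subgroup.closure {g | ∃ a ∈ R, a ^ n = g} ≤ R ⊓ centralizer (R : Set G) ⊓ centralizer ({x} : Set G) := by
  set A := Subgroup.closure {g | ∃ a ∈ R, a ^ n = g}
  have hAR : A ≤ R := (closure_le R).2 fun g ⟨a, ha, e⟩ => e ▸ pow_mem ha n
  have hcomm : ∀ a ∈ A, ∀ b ∈ A, a * b = b * a := by
    have h1 : A ≤ centralizer ({g | ∃ a ∈ R, a ^ n = g} : Set G) :=
      (closure_le _).2 fun g ⟨a, ha, e⟩ => mem_centralizer_iff.2 fun g' ⟨b, hb, e'⟩ =>
        e ▸ e' ▸ (commutatorElement_eq_one_iff_mul_comm.1 (hn b hb a ha))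
    have h2 : A ≤ centralizer (A : Set G) := (closure_le _).2 fun g hg =>
      mem_centralizer_iff.2 fun b hb => (mem_centralizer_iff.1 (h1 hb) g hg).symm
    exact fun a ha b hb => (mem_centralizer_iff.1 (h2 ha) b hb).symm
  have hKA : K ≤ normalizer (A : Set G) := by
    refine le_normalizer_iff.2 fun k hk g hg => ?_
    have hsub : A.map (MulAut.conj k).toMonoidHom ≤ A := by
      rw [MonoidHom.map_closure]
      refine closure_mono ?_
      rintro _ ⟨_, ⟨a, ha, rfl⟩, rfl⟩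
      exact ⟨k * a * k⁻¹, (mem_normalizer_iff.1 (hK hk) a).1 ha, by
        rw [conj_pow]; rfl⟩
    exact hsub (mem_map_of_mem _ hg)
  exact le_inf (le_inf hAR (central_of_abelian hRK hgen hab hAR hcomm hKA))
    (hab A hAR hcomm hKA)

theorem comm_sq_eq_one {a b : G} (ha : a ∈ R) (hb : b ∈ R) : ⁅a, b⁆ ^ 2 = 1 := by
  obtain ⟨m, hm⟩ := IsPGroup.iff_card.1 hR
  have main : ∀ k, (∀ a ∈ R, ∀ b ∈ R, ⁅a, b⁆ ^ (2 ^ k) = 1) → ∀ a ∈ R, ∀ b ∈ R, ⁅a, b⁆ ^ 2 = 1 := by
    intro k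
    induction k with
    | zero =>
      intro h a ha b hb
      have h1 := h a ha b hb
      rw [pow_zero, pow_one] at h1
      rw [h1, one_pow]
    | succ k ih =>
      intro h
      by_cases hk : k = 0
      · subst hk
        simpa using h
      refine ih fun a ha b hb => ?_
      have hn : ∀ a ∈ R, ∀ b ∈ R, ⁅a ^ 2 ^ k, b ^ 2 ^ k⁆ = 1 := by
        intro a ha b hb
        rw [comm_pow_left hR hxK hRK hK hgen hab ha (pow_mem hb _),
          comm_pow_right hR hxK hRK hK hgen hab ha hb, ← pow_mul, ← pow_add]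
        obtain ⟨j, hj⟩ : ∃ j, k + k = (k + 1) + j := ⟨k - 1, by omega⟩
        rw [hj, pow_add, pow_mul, h a ha b hb, one_pow]
      have := (pow_closure_props hR hxK hRK hK hgen hab _ hn
        (Subgroup.subset_closure ⟨a, ha, rfl⟩)).1.2
      rw [← comm_pow_left hR hxK hRK hK hgen hab ha hb, commutatorElement_eq_one_iff_mul_comm]
      exact (mem_centralizer_iff.1 this b hb).symm
  refine main m (fun a ha b hb => ?_) a ha b hb
  have hab' : ⁅a, b⁆ ∈ R := by
    rw [commutatorElement_def]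
    exact mul_mem (mul_mem (mul_mem ha hb) (inv_mem ha)) (inv_mem hb)
  exact orderOf_dvd_iff_pow_eq_one.1 (hm ▸ R.orderOf_dvd_natCard hab')

theorem sq_mem {a : G} (ha : a ∈ R) : a * a ∈ R ⊓ centralizer (R : Set G) ⊓ centralizer ({x} : Set G) := by
  refine pow_closure_props hR hxK hRK hK hgen hab 2 (fun a ha b hb => ?_)
    (Subgroup.subset_closure ⟨a, ha, pow_two a⟩)
  rw [comm_pow_left hR hxK hRK hK hgen hab ha (pow_mem hb _)]
  exact comm_sq_eq_one hR hxK hRK hK hgen hab ha (pow_mem hb _)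

omit [Finite G] hR hxK hRK hK hgen hab in
theorem sq_mul (a b : G) : a * b * (a * b) = a * a * ⁅a⁻¹, b⁆ * (b * b) := by
  simp only [commutatorElement_def]
  group

theorem fourth_eq_one {a : G} (ha : a ∈ R) : a * a * (a * a) = 1 := by
  have hc : ∀ a ∈ R, ∀ b ∈ R, a * a * b = b * (a * a) := fun a ha b hb =>
    (mem_centralizer_iff.1 (sq_mem hR hxK hRK hK hgen hab ha).1.2 b hb).symm
  have hmul : ∀ a ∈ R, ∀ b ∈ R,
      a * b * (a * b) * (a * b * (a * b)) = a * a * (a * a) * (b * b * (b * b)) := by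
    intro a ha b hb
    have hq := comm_sq_eq_one hR hxK hRK hK hgen hab (inv_mem ha) hb
    have hbb : b * b ∈ R := mul_mem hb hb
    have e : Commute ⁅a⁻¹, b⁆ (b * b) := comm_central hR hxK hRK hK hgen hab (inv_mem ha) hb hbb
    have hcR : ⁅a⁻¹, b⁆ ∈ R := by
      rw [commutatorElement_def]
      exact mul_mem (mul_mem (mul_mem (inv_mem ha) hb) (inv_mem (inv_mem ha))) (inv_mem hb)
    have e1 : Commute (a * a) (b * b) := hc a ha _ hbb
    have h : Commute (a * a) ⁅a⁻¹, b⁆ := hc a ha _ hcR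
    rw [sq_mul a b, ← pow_two, ← pow_two (a * a), ← pow_two (b * b),
      (Commute.mul_left e1 e).mul_pow, h.mul_pow, hq, mul_one]
  let W : Subgroup G :=
    { carrier := {g | g ∈ R ∧ g * g * (g * g) = 1}
      one_mem' := ⟨one_mem R, by simp⟩
      mul_mem' := fun {a b} ha hb => ⟨mul_mem ha.1 hb.1, by
        rw [hmul a ha.1 b hb.1, ha.2, hb.2, mul_one]⟩
      inv_mem' := fun {a} ha => ⟨inv_mem ha.1, by
        rw [← mul_inv_rev, ← mul_inv_rev, ha.2, inv_one]⟩ }
  suffices R ≤ W from (this ha).2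
  conv_lhs => rw [← hgen]
  rw [commutator_le]
  intro r hr z hz
  have hzR : z * r * z⁻¹ ∈ R :=
    (mem_normalizer_iff.1 (hK ((zpowers_le.2 hxK) hz)) r).1 hr
  have he : ⁅r, z⁆ = r * (z * r * z⁻¹)⁻¹ := by simp only [commutatorElement_def]; group
  have hsq : z * r * z⁻¹ * (z * r * z⁻¹) = r * r := by
    obtain ⟨n, rfl⟩ := mem_zpowers_iff.1 hz
    have hcx : Commute (r * r) x := mem_centralizer_singleton_iff.1
      (sq_mem hR hxK hRK hK hgen hab hr).2
    calc x ^ n * r * (x ^ n)⁻¹ * (x ^ n * r * (x ^ n)⁻¹) = x ^ n * (r * r) * (x ^ n)⁻¹ := by group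
      _ = r * r := by rw [← (hcx.zpow_right n).eq, mul_inv_cancel_right]
  refine he ▸ ⟨mul_mem hr (inv_mem hzR), ?_⟩
  rw [hmul r hr _ (inv_mem hzR), ← mul_inv_rev, hsq, ← mul_inv_rev, mul_inv_cancel]

theorem comm_mem_squares {a b : G} (ha : a ∈ R) (hb : b ∈ R) :
    ⁅a, b⁆ ∈ Subgroup.closure {g | ∃ a ∈ R, a ^ 2 = g} := by
  have h : ∀ c ∈ R, c * c ∈ Subgroup.closure {g | ∃ a ∈ R, a ^ 2 = g} := fun c hc =>
    Subgroup.subset_closure ⟨c, hc, pow_two c⟩
  have e : ⁅a, b⁆ = (a⁻¹ * a⁻¹)⁻¹ * (a⁻¹ * b * (a⁻¹ * b)) * (b * b)⁻¹ := by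
    simp only [commutatorElement_def]
    group
  rw [e]
  exact mul_mem (mul_mem (inv_mem (h _ (inv_mem ha))) (h _ (mul_mem (inv_mem ha) hb))) (inv_mem (h _ hb))

theorem fixed_eq_squares {n : ℕ} (hn : x ^ n = 1) (hodd : Odd n) :
    R ⊓ centralizer ({x} : Set G) = Subgroup.closure {g | ∃ a ∈ R, a ^ 2 = g} := by
  have hle := pow_closure_props hR hxK hRK hK hgen hab 2 fun a ha b hb => by
    rw [comm_pow_left hR hxK hRK hK hgen hab ha (pow_mem hb _)]
    exact comm_sq_eq_one hR hxK hRK hK hgen hab ha (pow_mem hb _)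
  refine le_antisymm (fun r hr => ?_) (hle.trans (le_inf (inf_le_left.trans inf_le_left) inf_le_right))
  refine fixed_mem (N := Subgroup.closure {g | ∃ a ∈ R, a ^ 2 = g}) hn hodd (hK hxK) ?_ hgen
    (fun a ha b hb => commutatorElement_def a b ▸ comm_mem_squares hR hxK hRK hK hgen hab ha hb)
    (fun a ha => Subgroup.subset_closure ⟨a, ha, pow_two a⟩) hr.1
    (mem_centralizer_singleton_iff.1 hr.2).symm
  exact fun g hg => centralizer_le_normalizer _ (mem_centralizer_iff.2 fun z hz =>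
    (mem_centralizer_iff.1 (hle hz).1.2 g hg).symm)

end Class

/-- `R` is special with `R ∩ C(x)` its centre and `x` fixed point free modulo it. -/
structure Spec (p : ℕ) (x : G) (R : Subgroup G) : Prop where
  two : IsPGroup 2 R
  norm : x ∈ normalizer (R : Set G)
  opGroup : IsPGroup p (zpowers x)
  sq : ∀ a ∈ R, a * a ∈ R ⊓ centralizer ({x} : Set G)
  central : R ⊓ centralizer ({x} : Set G) ≤ centralizer (R : Set G)
  sq_fixed : ∀ z ∈ R ⊓ centralizer ({x} : Set G), z * z = 1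
  gen_sq : R ⊓ centralizer ({x} : Set G) = Subgroup.closure {g | ∃ a ∈ R, a ^ 2 = g}
  fpf : ∀ a ∈ R, x * a * x⁻¹ * a⁻¹ ∈ R ⊓ centralizer ({x} : Set G) → a ∈ centralizer ({x} : Set G)
  card : p = 5 ∧ Nat.card R = 16 * Nat.card ↥(R ⊓ centralizer ({x} : Set G) : Subgroup G) ∨
    p = 7 ∧ Nat.card R = 8 * Nat.card ↥(R ⊓ centralizer ({x} : Set G) : Subgroup G)

theorem pow_dvd_sub_one {p : ℕ} (hp : p.Prime) (hp5 : 5 ≤ p) {d : ℕ} (hd : d ≤ 4) (hd0 : d ≠ 0)
    (h : p ∣ 2 ^ d - 1) : p = 5 ∧ d = 4 ∨ p = 7 ∧ d = 3 := by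
  have hle : p ≤ 2 ^ d - 1 := Nat.le_of_dvd (by
    have := Nat.one_lt_two_pow hd0
    omega) h
  have h15 : p ≤ 15 := hle.trans (by
    have := Nat.pow_le_pow_right (show 0 < 2 by omega) hd
    omega)
  interval_cases d <;> interval_cases p <;> first | omega | (norm_num at hp)

theorem isPGroup_zpowers_pow {p : ℕ} [Fact p.Prime] [Finite G] {x : G} (hx : IsPGroup p (zpowers x)) :
    ∃ k, orderOf x = p ^ k := by
  obtain ⟨k, hk⟩ := IsPGroup.iff_card.1 hx
  exact ⟨k, by rw [← hk, Nat.card_zpowers]⟩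

/-- Conjugation on the cosets of `N` in `U` by the powers of `x`. -/
@[reducible] def cosetAction {x : G} {U N : Subgroup G} (hxU : x ∈ normalizer (U : Set G))
    (hxN : x ∈ normalizer (N : Set G)) : MulAction (zpowers x) (U ⧸ N.subgroupOf U) where
  smul z := Quotient.map'
    (fun a : U => (⟨(z : G) * a * (z : G)⁻¹,
      (mem_normalizer_iff.1 ((zpowers_le.2 hxU) z.2) a).1 a.2⟩ : U))
    fun a b h => by
      rw [QuotientGroup.leftRel_apply] at h ⊢
      have h' : (a : G)⁻¹ * b ∈ N := by simpa [mem_subgroupOf] using h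
      have := (mem_normalizer_iff.1 ((zpowers_le.2 hxN) z.2) _).1 h'
      simpa [mem_subgroupOf, mul_assoc] using this
  one_smul q := Quotient.inductionOn' q fun a =>
    congrArg Quotient.mk'' (Subtype.ext (by simp))
  mul_smul z w q := Quotient.inductionOn' q fun a =>
    congrArg Quotient.mk'' (Subtype.ext (by simp [mul_assoc]))

/-- A subgroup on which `x` acts without fixed points modulo `N` has index `1 mod p`. -/
theorem relIndex_modEq {p : ℕ} [Fact p.Prime] [Finite G] {x : G} {U N : Subgroup G}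
    (hx : IsPGroup p (zpowers x)) (hxU : x ∈ normalizer (U : Set G))
    (hxN : x ∈ normalizer (N : Set G))
    (hfpf : ∀ a ∈ U, a⁻¹ * (x * a * x⁻¹) ∈ N → a ∈ N) : N.relIndex U ≡ 1 [MOD p] := by
  letI := cosetAction hxU hxN
  have hfix : MulAction.fixedPoints (zpowers x) (U ⧸ N.subgroupOf U) = {QuotientGroup.mk (1 : U)} := by
    ext q
    refine ⟨fun hq => ?_, ?_⟩
    · obtain ⟨a, rfl⟩ := QuotientGroup.mk_surjective q
      have h1 : QuotientGroup.mk (s := N.subgroupOf U)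
          (⟨x * a * x⁻¹, (mem_normalizer_iff.1 hxU a).1 a.2⟩ : U) = QuotientGroup.mk a :=
        hq ⟨x, mem_zpowers x⟩
      rw [QuotientGroup.eq] at h1
      have h2 : (x * a * x⁻¹)⁻¹ * (a : G) ∈ N := by simpa [mem_subgroupOf] using h1
      have h3 : (a : G) ∈ N := hfpf a a.2 (by simpa using inv_mem h2)
      rw [Set.mem_singleton_iff, QuotientGroup.eq]
      simpa [mem_subgroupOf] using inv_mem h3
    · rintro rfl z
      exact congrArg Quotient.mk'' (Subtype.ext (by simp))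
  have h := hx.card_modEq_card_fixedPoints (U ⧸ N.subgroupOf U)
  have h1 : Nat.card (MulAction.fixedPoints (zpowers x) (U ⧸ N.subgroupOf U)) = 1 := by
    rw [hfix]; simp
  rw [h1] at h
  exact h

theorem spec_of_moved [Finite G] {p : ℕ} [hp : Fact p.Prime] (hp5 : 5 ≤ p) {x : G} {R K : Subgroup G}
    (hx : IsPGroup p (zpowers x)) (hR : IsPGroup 2 R) (hxK : x ∈ K) (hRK : R ≤ K)
    (hK : K ≤ normalizer (R : Set G)) (hgen : ⁅R, zpowers x⁆ = R) (hne : R ≠ ⊥)
    (hab : ∀ A ≤ R, (∀ a ∈ A, ∀ b ∈ A, a * b = b * a) → K ≤ normalizer (A : Set G) →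
      A ≤ centralizer ({x} : Set G))
    (hsect : ∀ N ≤ R, R ≤ normalizer (N : Set G) → (∀ a ∈ R, a * a ∈ N) →
      Nat.card R ≤ 16 * Nat.card N) : Spec p x R := by
  obtain ⟨k, hk⟩ := isPGroup_zpowers_pow hx
  have hn : x ^ (p ^ k) = 1 := hk ▸ pow_orderOf_eq_one x
  have hodd : Odd (p ^ k) := (hp.out.odd_of_ne_two (by omega)).pow
  have hfe := fixed_eq_squares hR hxK hRK hK hgen hab hn hodd
  have hsq : ∀ a ∈ R, a * a ∈ R ⊓ centralizer ({x} : Set G) := fun a ha =>
    hfe ▸ Subgroup.subset_closure ⟨a, ha, pow_two a⟩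
  have hle := pow_closure_props hR hxK hRK hK hgen hab 2 fun a ha b hb => by
    rw [comm_pow_left hR hxK hRK hK hgen hab ha (pow_mem hb _)]
    exact comm_sq_eq_one hR hxK hRK hK hgen hab ha (pow_mem hb _)
  have hcent : R ⊓ centralizer ({x} : Set G) ≤ centralizer (R : Set G) :=
    hfe ▸ fun g hg => (hle hg).1.2
  have hsqz : ∀ z ∈ R ⊓ centralizer ({x} : Set G), z * z = 1 := by
    rw [hfe]
    intro z hz
    induction hz using Subgroup.closure_induction with
    | mem g hg =>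
      obtain ⟨a, ha, rfl⟩ := hg
      rw [pow_two]
      exact fourth_eq_one hR hxK hRK hK hgen hab ha
    | one => simp
    | mul g h hg hh ihg ihh =>
      have hc : Commute g h := (mem_centralizer_iff.1 (hle hh).1.2 g (hle hg).1.1)
      rw [← pow_two, hc.mul_pow, pow_two, pow_two, ihg, ihh, one_mul]
    | inv g _ ih => rw [← mul_inv_rev, ih, inv_one]
  obtain ⟨Z, hZ⟩ : ∃ Z, Z = R ⊓ centralizer ({x} : Set G) := ⟨_, rfl⟩
  rw [← hZ] at hsq hcent hsqz
  have hxN : x ∈ normalizer (Z : Set G) := by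
    refine centralizer_le_normalizer _ (mem_centralizer_iff.2 fun z hz => ?_)
    exact mem_centralizer_singleton_iff.1 ((hZ ▸ hz : z ∈ R ⊓ centralizer ({x} : Set G))).2
  have hRN : R ≤ normalizer (Z : Set G) := fun g hg => centralizer_le_normalizer _
    (mem_centralizer_iff.2 fun z hz => (mem_centralizer_iff.1 (hcent hz) g hg).symm)
  have hcomm : ∀ a ∈ R, ∀ b ∈ R, a * b * a⁻¹ * b⁻¹ ∈ Z := fun a ha b hb =>
    hZ ▸ hfe ▸ commutatorElement_def a b ▸ comm_mem_squares hR hxK hRK hK hgen hab ha hb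
  have hfpf : ∀ a ∈ R, a⁻¹ * (x * a * x⁻¹) ∈ Z → a ∈ Z := by
    intro a ha h
    have hzpn : zpowers x ≤ normalizer (R : Set G) := zpowers_le.2 (hK hxK)
    have hcop : (Nat.card (zpowers x)).Coprime (Nat.card R) := by
      obtain ⟨m, hm⟩ := IsPGroup.iff_card.1 hR
      rw [hm, Nat.card_zpowers, hk]
      exact Nat.Coprime.pow _ _ ((Nat.coprime_primes hp.out Nat.prime_two).2 (by omega))
    have hconv : ∀ z ∈ zpowers x, z * a * z⁻¹ * a⁻¹ ∈ Z := by
      intro z hz
      let T : Subgroup G :=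
        { carrier := {z | z ∈ normalizer (Z : Set G) ∧ z * a * z⁻¹ * a⁻¹ ∈ Z}
          one_mem' := ⟨one_mem _, by simp⟩
          mul_mem' := fun {z w} hz hw => ⟨mul_mem hz.1 hw.1, by
            have := mul_mem ((mem_normalizer_iff.1 hz.1 _).1 hw.2) hz.2
            convert this using 1
            group⟩
          inv_mem' := fun {z} hz => ⟨inv_mem hz.1, by
            have := (mem_normalizer_iff.1 (inv_mem hz.1) _).1 (inv_mem hz.2)
            convert this using 1
            group⟩ }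
      refine (zpowers_le.2 (show x ∈ T from ⟨hxN, ?_⟩) hz).2
      have := (mem_normalizer_iff.1 (hRN ha) _).1 h
      convert this using 1
      group
    obtain ⟨c, hc, hac⟩ := Coprime.exists_centralizer_mem_of_comm_mem hzpn hcop
      (Or.inl (Coprime.isSolvable_zpowers x)) (N := Z) (hZ.le.trans inf_le_left) hRN
      (zpowers_le.2 hxN) ha hconv
    have hcZ : c ∈ Z := by
      rw [hZ]
      exact ⟨hc.1, mem_centralizer_singleton_iff.2 (mem_centralizer_iff.1 hc.2 x (mem_zpowers x)).symm⟩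
    have := mul_mem hcZ (inv_mem hac)
    rwa [mul_inv_rev, inv_inv, mul_inv_cancel_left] at this
  refine ⟨hR, hK hxK, hx, hZ ▸ hsq, hZ ▸ hcent, hZ ▸ hsqz, hfe, fun a ha h => ?_, ?_⟩
  · rw [← hZ] at h
    refine ((hZ ▸ hfpf a ha ?_ : a ∈ R ⊓ centralizer ({x} : Set G))).2
    have := (mem_normalizer_iff.1 (hRN (inv_mem ha)) _).1 h
    convert this using 1
    group
  have hmod : Z.relIndex R ≡ 1 [MOD p] := relIndex_modEq hx (hK hxK) hxN hfpf
  have hcard : Nat.card R = Z.relIndex R * Nat.card Z := by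
    have h1 := (Z.subgroupOf R).index_mul_card
    rwa [Nat.card_congr (Subgroup.subgroupOfEquivOfLe (hZ.le.trans inf_le_left)).toEquiv,
      show (Z.subgroupOf R).index = Z.relIndex R from rfl, eq_comm] at h1
  have hle16 : Z.relIndex R ≤ 16 := by
    have h2 := hsect Z (hZ.le.trans inf_le_left) hRN hsq
    rw [hcard] at h2
    exact Nat.le_of_mul_le_mul_right h2 Nat.card_pos
  obtain ⟨m, hm⟩ := IsPGroup.iff_card.1 hR
  obtain ⟨d, -, hd⟩ := (Nat.dvd_prime_pow Nat.prime_two).1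
    (hm ▸ ⟨Nat.card Z, hcard⟩ : Z.relIndex R ∣ 2 ^ m)
  have hd4 : d ≤ 4 := by
    by_contra h
    have := Nat.pow_le_pow_right (by omega : 0 < 2) (Nat.not_le.1 h)
    omega
  have hd0 : d ≠ 0 := by
    intro h
    rw [h, pow_zero] at hd
    have hRC : R ≤ centralizer ({x} : Set G) := by
      intro r hr
      have : r ∈ Z := relIndex_eq_one.1 hd hr
      exact (hZ ▸ this : r ∈ R ⊓ centralizer ({x} : Set G)).2
    refine hne ?_
    rw [← hgen, commutator_eq_bot_iff_le_centralizer]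
    intro r hr
    rw [mem_centralizer_iff]
    intro z hz
    obtain ⟨i, rfl⟩ := mem_zpowers_iff.1 hz
    exact ((show Commute r x from mem_centralizer_singleton_iff.1 (hRC hr)).zpow_right i).eq.symm
  have hdvd : p ∣ 2 ^ d - 1 :=
    (Nat.modEq_iff_dvd' Nat.one_le_two_pow).1 (hd ▸ hmod).symm
  rw [← hZ, hcard, hd]
  rcases pow_dvd_sub_one hp.out hp5 hd4 hd0 hdvd with ⟨h1, h2⟩ | ⟨h1, h2⟩
  · exact Or.inl ⟨h1, by rw [h2]; norm_num⟩
  · exact Or.inr ⟨h1, by rw [h2]; norm_num⟩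

end Cfsg.Agent.H60.NoMoved
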